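import Cfsg.Agent.Lib.RootBlocks.Lift

/-!
The components contain every offender of the Sylow subgroup, and are generated by the conjugates of one.
-/

set_option autoImplicit false
set_option linter.unusedSectionVars false
set_option linter.style.haveILetI false

namespace CfsgLib.RootBlocks

open CfsgLib CfsgLib.RootCommute
open CfsgLib.SL2Pair (fix)
open CfsgLib.StrongFusion (cm cm_cm cm_one cm_inv_cm cm_mono)

universe u v

variable {P : Type u} [Group P] [Finite P] {W : Type v} [AddCommGroup W] [Finite W] {p : ℕ} [hp : Fact p.Prime]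
  {ρ : P →* AddMonoid.End W} {T : Sylow p P} {M : Subgroup P}

/-- The components together with their relation to the offenders. -/
theorem lifted_generated (hsp : HasSplit.{u, v} p) (h : Over ρ T M) (hoff : HasOffender ρ T) :
    ∃ (r : ℕ) (E : Fin r → Subgroup P), 1 ≤ r ∧
      (∀ i j, i ≠ j → ∀ g ∈ E i, ∀ k ∈ E j, g * k = k * g) ∧
      (∀ i, E i ⊓ (⨆ j ∈ {j | j ≠ i}, E j) = ⊥) ∧
      (⨆ i, E i) ⊔ (T : Subgroup P) = ⊤ ∧
      (∀ i j, ∃ t ∈ (T : Subgroup P), cm t (E i) = E j) ∧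
      fix ρ (⨆ i, E i) ⊔ (⨆ i, img ρ (E i)) = ⊤ ∧
      (∀ i j, i ≠ j → img ρ (E i) ≤ fix ρ (E j)) ∧
      (∀ i, IsSectionComponent p ρ (E i)) ∧ (⨆ i, E i).Normal ∧
      (∀ A : Subgroup P, A ≤ (T : Subgroup P) → (∀ a ∈ A, ∀ c ∈ A, a * c = c * a) → (∀ a ∈ A, a ^ p = 1) →
        Nat.card W ≤ mu ρ A → A ≤ ⨆ i, E i) ∧
      ∀ K : Subgroup P, K.Normal → (∃ A : Subgroup P, A ≤ K ∧ A ≤ (T : Subgroup P) ∧
        (∀ a ∈ A, ∀ c ∈ A, a * c = c * a) ∧ (∀ a ∈ A, a ^ p = 1) ∧ A ≠ ⊥ ∧ Nat.card W ≤ mu ρ A) →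
        (⨆ i, E i) ≤ K := by
  classical
  obtain ⟨U, iU, iUf, σ, W1, W2, π, N, ι, iι, D, f⟩ := exists_frame hsp h hoff
  haveI : Nonempty ι := D.nonempty
  let e := Fintype.equivFin ι
  have hgen : ∀ A : Subgroup P, A ≤ (T : Subgroup P) → (∀ a ∈ A, ∀ c ∈ A, a * c = c * a) → (∀ a ∈ A, a ^ p = 1) →
      Nat.card W ≤ mu ρ A → A ≤ sSup {B | B ≤ A ∧ B ∈ D.mem} := fun A hAT hAc hAp hA =>
    (D.bound A hAT hAc hAp).2 (f.sect.offender hA)
  refine ⟨Fintype.card ι, fun k => D.E (e.symm k), Fintype.card_pos,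
    fun i j hij => D.comm _ _ fun h => hij (e.symm.injective h), fun k => ?_, ?_,
    fun i j => D.trans _ _, ?_, fun i j hij => f.other_comp fun h => hij (e.symm.injective h),
    fun k => f.section_comp _, ?_, fun A hAT hAc hAp hA => ?_, fun K hK hex => ?_⟩
  · refine eq_bot_iff.2 ((inf_le_inf_left _ (iSup₂_le fun j hj => ?_)).trans (f.inf_others (e.symm k)).le)
    exact le_iSup₂_of_le (f := fun l (_ : l ∈ {l | l ≠ e.symm k}) => D.E l) (e.symm j)
      (fun h => hj (e.symm.injective h)) le_rfl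
  · rw [e.symm.iSup_comp (g := D.E)]; exact D.sup
  · rw [e.symm.iSup_comp (g := D.E), e.symm.iSup_comp (g := fun i => img ρ (D.E i))]; exact f.sum_top
  · rw [e.symm.iSup_comp (g := D.E)]; exact D.join_normal
  · rw [e.symm.iSup_comp (g := D.E)]
    exact (hgen A hAT hAc hAp hA).trans (sSup_le fun B hB => D.comp_mem B hB.2)
  · obtain ⟨A, hAK, hAT, hAc, hAp, hA0, hA⟩ := hex
    obtain ⟨B₁, hB₁A, hB₁⟩ : ∃ B, B ≤ A ∧ B ∈ D.mem := by
      by_contra hno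
      exact hA0 (eq_bot_iff.2 ((hgen A hAT hAc hAp hA).trans (sSup_le fun B hB => absurd ⟨B, hB⟩ hno)))
    refine iSup_le fun k => ?_
    obtain ⟨s, hs, hE, -⟩ := D.gens (e.symm k)
    show D.E (e.symm k) ≤ K
    rw [hE]
    refine Finset.sup_le fun B hB => ?_
    obtain ⟨g, B₀, hB₀, rfl⟩ := hs B hB
    obtain ⟨g', rfl⟩ := D.mem_conj B₁ hB₁ B₀ hB₀
    rw [cm_cm]
    rintro _ ⟨b, hb, rfl⟩
    exact hK.conj_mem b (hAK (hB₁A hb)) _

end CfsgLib.RootBlocks
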