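import Cfsg.Agent.Lib.RootBlocks.Single
import Mathlib.Data.Setoid.Basic
import Mathlib.Algebra.Order.BigOperators.Ring.Finset
import Mathlib.GroupTheory.QuotientGroup.Basic

/-!
No elementary abelian subgroup of the Sylow subgroup gains on blocks, and one that breaks even is generated
by root groups.
-/

set_option autoImplicit false
set_option linter.unusedSectionVars false
set_option linter.style.haveILetI false

namespace CfsgLib.RootBlocks

open CfsgLib CfsgLib.RootCommute
open CfsgLib.SL2Pair (fix)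
open CfsgLib.StrongFusion (cm cm_cm cm_one cm_inv_cm)

universe u v w

variable {P : Type u} [Group P] [Finite P] {U : Type v} [AddCommGroup U] [Finite U] {p : ℕ} [hp : Fact p.Prime]
  {ρ : P →* AddMonoid.End U} {T : Sylow p P} {ι : Type w} [Fintype ι] {F : Type} [Field F] [Fintype F]

theorem orbit_lt {q m : ℕ} (hq : 2 ≤ q) (hm : 2 ≤ m) : m * q ^ 2 < q ^ (2 * m) := by
  obtain ⟨k, rfl⟩ : ∃ k, m = k + 2 := ⟨m - 2, by omega⟩
  have h1 : k + 2 < q ^ (2 * (k + 1)) := calc
    k + 2 < 2 ^ (k + 2) := Nat.lt_two_pow_self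
    _ ≤ 2 ^ (2 * (k + 1)) := Nat.pow_le_pow_right (by norm_num) (by omega)
    _ ≤ q ^ (2 * (k + 1)) := Nat.pow_le_pow_left hq _
  calc (k + 2) * q ^ 2 < q ^ (2 * (k + 1)) * q ^ 2 := by gcongr
    _ = q ^ (2 * (k + 2)) := by rw [← pow_add]; ring_nf

/-- Products of bounded factors attaining the bound attain it factor by factor. -/
theorem prod_eq_of_le {κ : Type*} {s : Finset κ} {f g : κ → ℕ} (h : ∀ i ∈ s, f i ≤ g i) (hf : ∀ i ∈ s, 0 < f i)
    (he : ∏ i ∈ s, g i ≤ ∏ i ∈ s, f i) : ∀ i ∈ s, f i = g i := by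
  intro i hi
  by_contra hne
  exact absurd (Finset.prod_lt_prod hf h ⟨i, hi, lt_of_le_of_ne (h i hi) hne⟩) (not_lt.2 he)

namespace Blocks

variable (b : Blocks ρ T ι F)
include b

theorem grp_of_A {t : P} (ht : t ∈ (T : Subgroup P)) {i j : ι} (h : cm t (b.A i) = b.A j) :
    cm t (b.grp i) = b.grp j := by
  obtain ⟨k, hk, hkG⟩ := b.perm t ht i
  rwa [b.A_injective (h.symm.trans hk)]

/-- **The bound.** -/
theorem bound {n : ℕ} (hn : Fintype.card F = p ^ n) {E : Subgroup P} (hET : E ≤ (T : Subgroup P))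
    (hcomm : ∀ a ∈ E, ∀ c ∈ E, a * c = c * a) (hpow : ∀ a ∈ E, a ^ p = 1) :
    mu ρ E ≤ Nat.card U ∧ (Nat.card U ≤ mu ρ E → E ≤ sSup {B | B ≤ E ∧ ∃ i, b.A i = B}) := by
  classical
  have hq2 : 2 ≤ Fintype.card F := Fintype.one_lt_card
  set q := Fintype.card F with hqdef
  -- orbits
  let st : Setoid ι :=
    { r := fun i j => ∃ e ∈ E, cm e (b.A i) = b.A j
      iseqv := ⟨fun i => ⟨1, one_mem _, cm_one _⟩,
        fun {i j} ⟨e, he, h⟩ => ⟨e⁻¹, inv_mem he, by rw [← h, cm_inv_cm]⟩,
        fun {i j k} ⟨e, he, h⟩ ⟨e', he', h'⟩ => ⟨e' * e, mul_mem he' he, by rw [← cm_cm, h, h']⟩⟩ }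
  haveI : Fintype (Quotient st) := Fintype.ofFinite _
  let rep : Quotient st → ι := Quotient.out
  have hrep : ∀ i : ι, ∃ e ∈ E, cm e (b.A (rep (Quotient.mk st i))) = b.A i := fun i => Quotient.mk_out i
  let St : ι → Subgroup P := fun i =>
    { carrier := {e | e ∈ E ∧ cm e (b.A i) = b.A i}
      one_mem' := ⟨one_mem _, cm_one _⟩
      mul_mem' := fun {e k} he hk => ⟨mul_mem he.1 hk.1, by rw [← cm_cm, hk.2, he.2]⟩
      inv_mem' := fun {e} he => ⟨inv_mem he.1, by conv_lhs => rw [← he.2, cm_inv_cm]⟩ }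
  have hStE : ∀ i, St i ≤ E := fun i e he => he.1
  have hsingle := fun i => b.single hn i (S := St i) ((hStE i).trans hET) (fun s hs => hs.2)
    (fun s hs => b.grp_of_A (hET hs.1) hs.2) (fun s hs t ht => hcomm s hs.1 t ht.1) fun s hs => hpow s hs.1
  -- elements acting trivially on one representative
  have hmove : ∀ e ∈ E, ∀ i j, cm e (b.A i) = b.A j → ∀ g ∈ E, (∀ u, b.pr i (ρ g u) = b.pr i u) →
      cm g (b.A i) = b.A i → ∀ u, b.pr j (ρ g u) = b.pr j u := by
    intro e he i j hij g hg hgi hgA u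
    have hgj : cm g (b.A j) = b.A j := by rw [← hij, cm_cm, hcomm g hg e he, ← cm_cm, hgA]
    have key : ∀ v ∈ b.space i, ρ g v = v := fun v hv => by
      have hmem := b.moved_space (b.grp_of_A (hET hg) hgA) hv
      refine b.ext_coords fun k => ?_
      by_cases hk : k = i
      · subst hk; exact Prod.mk.inj (hgi v)
      · rw [(b.mem_space.1 hmem k hk).1, (b.mem_space.1 hmem k hk).2, (b.mem_space.1 hv k hk).1,
          (b.mem_space.1 hv k hk).2]
        exact ⟨rfl, rfl⟩
    have hpr : b.pr j u = b.pr j (b.ex j (b.cx j u) + b.ey j (b.cy j u)) := Prod.ext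
      (show b.cx j u = b.cx j _ by rw [map_add, b.cx_ex, b.cx_ey, add_zero])
      (show b.cy j u = b.cy j _ by rw [map_add, b.cy_ex, b.cy_ey, zero_add])
    have h0 := b.pr_invariant (hET hg) hgj (u := u - (b.ex j (b.cx j u) + b.ey j (b.cy j u)))
      (by rw [map_sub, ← hpr, sub_self])
    rw [map_sub, map_sub, sub_eq_zero] at h0
    set v := b.ex j (b.cx j u) + b.ey j (b.cy j u) with hv
    have hvj : v ∈ b.space j := AddSubgroup.mem_sup.2 ⟨_, ⟨_, rfl⟩, _, ⟨_, rfl⟩, rfl⟩
    have hinv : cm e⁻¹ (b.A j) = b.A i := by rw [← hij, cm_inv_cm]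
    have hvi := b.moved_space (b.grp_of_A (hET (inv_mem he)) hinv) hvj
    have e1 : ρ g v = v := by
      have := congrArg (ρ e) (key _ hvi)
      rwa [← act_mul, ← hcomm g hg e he, act_mul, act_inv'] at this
    rw [h0, e1, hpr]
  -- injection of the group
  let K : Quotient st → Subgroup E := fun Q => (St (rep Q) ⊓ b.blockKer (rep Q)).subgroupOf E
  have hKi : (⨅ Q, K Q) = ⊥ := by
    refine (Subgroup.eq_bot_iff_forall _).2 fun g hg => Subtype.ext (act_ext ρ b.inj fun u => ?_)
    rw [OneMemClass.coe_one, act_one]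
    refine b.ext_coords fun j => ?_
    obtain ⟨e, he, hej⟩ := hrep j
    have h := (Subgroup.mem_iInf.1 hg) (Quotient.mk st j)
    exact Prod.mk.inj (hmove e he _ j hej g g.2 h.2 h.1.2 u)
  let a : Quotient st → ℕ := fun Q => (b.blockKer (rep Q)).relIndex (St (rep Q))
  let c : Quotient st → ℕ := fun Q => Nat.card ((fix ρ (St (rep Q))).map (b.pr (rep Q)))
  let o : Quotient st → ℕ := fun Q => (Finset.univ.filter fun i => Quotient.mk st i = Q).card
  have hKidx : ∀ Q, (K Q).index ≤ o Q * a Q := by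
    intro Q
    show (St (rep Q) ⊓ b.blockKer (rep Q)).relIndex E ≤ _
    rw [← Subgroup.relIndex_mul_relIndex _ _ E (inf_le_left : St (rep Q) ⊓ b.blockKer (rep Q) ≤ St (rep Q)) (hStE _),
      Subgroup.inf_relIndex_left, mul_comm]
    refine Nat.mul_le_mul_right _ ?_
    show ((St (rep Q)).subgroupOf E).index ≤ _
    have hj : ∀ e : E, ∃ j, cm (e : P) (b.A (rep Q)) = b.A j := fun e => (b.perm e (hET e.2) _).imp fun j h => h.1
    choose f hf using hj
    have hf' : ∀ e : E, f e ∈ Finset.univ.filter fun i => Quotient.mk st i = Q := fun e => by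
      rw [Finset.mem_filter]
      exact ⟨Finset.mem_univ _, (Quotient.sound ⟨e, e.2, hf e⟩ : Quotient.mk st (rep Q) = Quotient.mk st (f e)).symm.trans
        (Quotient.out_eq Q)⟩
    rw [Subgroup.index_eq_card]
    show _ ≤ (Finset.univ.filter fun i => Quotient.mk st i = Q).card
    rw [← Fintype.card_coe, ← Nat.card_eq_fintype_card]
    refine Nat.card_le_card_of_injective (fun x => ⟨f x.out, hf' _⟩) fun x y h => ?_
    have h2 : f x.out = f y.out := congrArg Subtype.val h
    rw [← x.out_eq, ← y.out_eq, QuotientGroup.eq, Subgroup.mem_subgroupOf]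
    refine ⟨((x.out⁻¹ * y.out : E)).2, ?_⟩
    rw [Subgroup.coe_mul, Subgroup.coe_inv, ← cm_cm, hf y.out, ← h2, ← hf x.out, cm_inv_cm]
  have hEle : Nat.card E ≤ ∏ Q, o Q * a Q := by
    rw [← Subgroup.index_bot, ← hKi]
    exact (Subgroup.index_iInf_le _).trans (Finset.prod_le_prod' fun Q _ => hKidx Q)
  have hfle : Nat.card (fix ρ E) ≤ ∏ Q, c Q := by
    rw [← Nat.card_pi]
    refine Nat.card_le_card_of_injective
      (fun u Q => ⟨b.pr (rep Q) (u : U), _, fun s hs => u.2 s (hStE _ hs), rfl⟩) fun u v h => Subtype.ext ?_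
    refine b.ext_coords fun j => ?_
    obtain ⟨e, he, hej⟩ := hrep j
    set i := rep (Quotient.mk st j)
    have h1 : b.pr i (u : U) = b.pr i v := congrArg Subtype.val (congrFun h _)
    have h2 : ρ e⁻¹ (u : U) = u := u.2 _ (inv_mem he)
    have h3 : ρ e⁻¹ (v : U) = v := v.2 _ (inv_mem he)
    set w := (u : U) - v
    have hw : ρ e w = w := by rw [map_sub, u.2 e he, v.2 e he]
    have hwi : b.pr i w = 0 := by rw [map_sub, h1, sub_self]
    have hwj : b.pr j w = 0 := by
      obtain ⟨hwx, hwy⟩ := Prod.mk.inj hwi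
      rw [← hw, b.sum_coords w, map_sum, map_sum]
      refine Finset.sum_eq_zero fun k _ => ?_
      by_cases hki : k = i
      · rw [hki, show b.cx i w = 0 from hwx, show b.cy i w = 0 from hwy, map_zero, map_zero, add_zero, map_zero, map_zero]
      obtain ⟨l, hl, hlG⟩ := b.perm e (hET he) k
      have hlj : l ≠ j := fun e' => hki (b.A_injective (Subgroup.map_injective (MulAut.conj e).injective
        (show cm e (b.A k) = cm e (b.A i) by rw [hl, e', hej])))
      obtain ⟨h4, h5⟩ := b.mem_space.1 (b.moved_space hlG (u := b.ex k (b.cx k w) + b.ey k (b.cy k w))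
        (AddSubgroup.mem_sup.2 ⟨_, ⟨_, rfl⟩, _, ⟨_, rfl⟩, rfl⟩)) j hlj.symm
      exact Prod.ext h4 h5
    rw [map_sub, sub_eq_zero] at hwj
    exact Prod.mk.inj hwj
  have hsum : ∑ Q, o Q = Fintype.card ι := by
    rw [← Finset.card_univ, Finset.card_eq_sum_card_fiberwise (fun i _ => Finset.mem_univ (Quotient.mk st i))]
  have hU : Nat.card U = ∏ Q, q ^ (2 * o Q) := by
    rw [b.card_U, Finset.prod_pow_eq_pow_sum, ← Finset.mul_sum, hsum]
  have ho1 : ∀ Q, 1 ≤ o Q := fun Q => Finset.card_pos.2 ⟨rep Q, by simp [rep]⟩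
  have hterm : ∀ Q, o Q * a Q * c Q ≤ q ^ (2 * o Q) := fun Q => by
    rw [mul_assoc]
    refine (Nat.mul_le_mul_left _ (hsingle (rep Q)).1).trans ?_
    rcases Nat.eq_or_lt_of_le (ho1 Q) with h | h
    · rw [← h, one_mul, mul_one]
    · exact (orbit_lt hq2 h).le
  have htot : mu ρ E ≤ ∏ Q, o Q * a Q * c Q := by
    rw [Finset.prod_mul_distrib]
    exact Nat.mul_le_mul hEle hfle
  refine ⟨(htot.trans (Finset.prod_le_prod' fun Q _ => hterm Q)).trans hU.ge, fun hge => ?_⟩
  have heq : ∀ Q, o Q * a Q * c Q = q ^ (2 * o Q) := fun Q => by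
    refine prod_eq_of_le (s := Finset.univ) (fun Q _ => hterm Q) (fun Q _ => ?_)
      (by rw [← hU]; exact hge.trans htot) Q (Finset.mem_univ Q)
    refine Nat.mul_pos (Nat.mul_pos (ho1 Q) (Nat.pos_of_ne_zero ?_)) Nat.card_pos
    exact Subgroup.index_ne_zero_of_finite
  have hEcard : Nat.card E = ∏ Q, o Q * a Q := by
    refine le_antisymm hEle (Nat.le_of_mul_le_mul_right ?_ (Nat.card_pos (α := fix ρ E)))
    calc (∏ Q, o Q * a Q) * Nat.card (fix ρ E) ≤ (∏ Q, o Q * a Q) * ∏ Q, c Q := Nat.mul_le_mul_left _ hfle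
      _ = Nat.card U := by rw [← Finset.prod_mul_distrib, hU]; exact Finset.prod_congr rfl fun Q _ => heq Q
      _ ≤ Nat.card E * Nat.card (fix ρ E) := hge
  have ho : ∀ Q, o Q = 1 := fun Q => by
    by_contra hne
    have h := (hsingle (rep Q)).1
    have h2 := orbit_lt hq2 (show 2 ≤ o Q by have := ho1 Q; omega)
    have h3 := heq Q
    rw [mul_assoc] at h3
    exact absurd (h3.ge.trans (Nat.mul_le_mul_left _ h)) (not_le.2 h2)
  -- every index is alone
  have hfixA : ∀ (j : ι) (e : P), e ∈ E → cm e (b.A j) = b.A j := fun j e he => by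
    obtain ⟨k, hk, -⟩ := b.perm e (hET he) j
    have h1 : Quotient.mk st j = Quotient.mk st k := Quotient.sound ⟨e, he, hk⟩
    obtain ⟨x, hx⟩ := Finset.card_eq_one.1 (ho (Quotient.mk st j))
    have hj : j ∈ Finset.univ.filter (fun i => Quotient.mk st i = Quotient.mk st j) := by simp
    have hk' : k ∈ Finset.univ.filter (fun i => Quotient.mk st i = Quotient.mk st j) := by simp [h1.symm]
    rw [hx, Finset.mem_singleton] at hj hk'
    rw [hk, hk', ← hj]
  have hrepid : ∀ j, rep (Quotient.mk st j) = j := fun j => by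
    obtain ⟨e, he, hej⟩ := hrep j
    exact b.A_injective ((hfixA _ e he).symm.trans hej)
  have hloc : ∀ j, (b.blockKer j).relIndex (St j) = 1 ∨ ((b.blockKer j).relIndex (St j) = q ∧
      ∀ s ∈ St j, ∃ t, ∀ u, b.pr j (ρ s u) = b.pr j (ρ (b.av j t) u)) := fun j => by
    refine (hsingle j).2 ?_
    have h := heq (Quotient.mk st j)
    rw [ho, one_mul, mul_one] at h
    have h2 : a (Quotient.mk st j) = (b.blockKer j).relIndex (St j) := by show (b.blockKer (rep _)).relIndex _ = _; rw [hrepid]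
    have h3 : c (Quotient.mk st j) = Nat.card ((fix ρ (St j)).map (b.pr j)) := by
      show Nat.card ((fix ρ (St (rep _))).map (b.pr (rep _))) = _; rw [hrepid]
    rw [← h2, ← h3, h]
  have hav : ∀ e ∈ E, ∀ j, ∃ t, ∀ u, b.pr j (ρ e u) = b.pr j (ρ (b.av j t) u) := fun e he j => by
    rcases hloc j with h | ⟨-, h⟩
    · refine ⟨0, fun u => ?_⟩
      rw [b.av_zero, act_one]
      exact (Subgroup.relIndex_eq_one.1 h ⟨he, hfixA j e he⟩ : e ∈ b.blockKer j) u
    · exact h e ⟨he, hfixA j e he⟩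
  choose t ht using fun (e : E) j => hav e e.2 j
  have htfun : ∀ (e : E) (u : U) j, b.cx j (ρ (e : P) u) = b.cx j u + t e j * b.cy j u ∧
      b.cy j (ρ (e : P) u) = b.cy j u := fun e u j => by
    obtain ⟨h1, h2⟩ := Prod.mk.inj (ht e j u)
    rw [b.av_act] at h1 h2
    rw [map_add, b.cx_ex] at h1
    rw [map_add, b.cy_ex, add_zero] at h2
    exact ⟨h1, h2⟩
  let Act := {j : ι // (b.blockKer j).relIndex (St j) ≠ 1}
  let Φ : E → Act → F := fun e j => t e j
  have hΦ : Function.Injective Φ := fun e e' h => Subtype.ext (act_ext ρ b.inj fun u => b.ext_coords fun j => by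
    by_cases hj : (b.blockKer j).relIndex (St j) = 1
    · have h1 : ∀ (g : E), b.pr j (ρ (g : P) u) = b.pr j u := fun g =>
        (Subgroup.relIndex_eq_one.1 hj ⟨g.2, hfixA j g g.2⟩ : (g : P) ∈ b.blockKer j) u
      exact Prod.mk.inj ((h1 e).trans (h1 e').symm)
    · have h1 := congrFun h ⟨j, hj⟩
      rw [(htfun e u j).1, (htfun e u j).2, (htfun e' u j).1, (htfun e' u j).2, show t e j = t e' j from h1]
      exact ⟨rfl, rfl⟩)
  have hcardAct : Nat.card (Act → F) = Nat.card E := by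
    rw [hEcard, Nat.card_eq_fintype_card, Fintype.card_fun, Fintype.card_subtype]
    have e1 : ∏ Q, o Q * a Q = ∏ j, (b.blockKer j).relIndex (St j) := by
      refine (Fintype.prod_bijective (Quotient.mk st) ⟨fun i j h => ?_, Quotient.mk_surjective⟩ _ _ fun j => ?_).symm
      · rw [← hrepid i, ← hrepid j, h]
      · show _ = o _ * (b.blockKer (rep _)).relIndex (St (rep _))
        rw [ho, one_mul, hrepid]
    rw [e1, ← Finset.prod_filter_ne_one, ← hqdef, ← Finset.prod_const]
    exact Finset.prod_congr rfl fun j hj => (((hloc j).resolve_left (Finset.mem_filter.1 hj).2).1).symm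
  have hsurj := ((Nat.bijective_iff_injective_and_card Φ).2 ⟨hΦ, hcardAct.symm⟩).2
  set Z := sSup {B | B ≤ E ∧ ∃ i, b.A i = B}
  have hZ : ∀ (j : Act) (x : F), b.av j.1 x ∈ Z := fun j x => by
    obtain ⟨e, he⟩ := hsurj (Pi.single j x)
    have hmem : ∀ y, b.av j.1 y ∈ E := fun y => by
      obtain ⟨e, he⟩ := hsurj (Pi.single j y)
      have : (e : P) = b.av j.1 y := act_ext ρ b.inj fun u => b.ext_coords fun k => by
        rw [b.av_act, map_add, map_add, b.cy_ex, add_zero, (htfun e u k).2]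
        refine ⟨?_, rfl⟩
        by_cases hk : k = j.1
        · subst hk
          rw [b.cx_ex, (htfun e u j.1).1, show t e j.1 = y by
            have := congrFun he j; rwa [Pi.single_eq_same] at this]
        rw [b.cx_ex_ne hk, add_zero]
        by_cases hk1 : (b.blockKer k).relIndex (St k) = 1
        · exact (Prod.mk.inj ((Subgroup.relIndex_eq_one.1 hk1 ⟨e.2, hfixA k e e.2⟩ : (e : P) ∈ b.blockKer k) u)).1
        · have h1 := congrFun he ⟨k, hk1⟩
          rw [Pi.single_eq_of_ne (fun h => hk (congrArg Subtype.val h))] at h1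
          rw [(htfun e u k).1, show t e k = 0 from h1, zero_mul, add_zero]
      exact this ▸ e.2
    refine le_sSup (show b.A j.1 ∈ {B | B ≤ E ∧ ∃ i, b.A i = B} from ⟨fun g hg => ?_, j.1, rfl⟩) (b.av_mem _ x)
    obtain ⟨y, rfl⟩ := b.av_surj j.1 g hg
    exact hmem y
  intro g hg
  suffices ∀ (s : Finset Act) (e : E), (∀ j, j ∉ s → Φ e j = 0) → (e : P) ∈ Z from
    this Finset.univ ⟨g, hg⟩ fun j hj => absurd (Finset.mem_univ j) hj
  intro s
  induction s using Finset.induction_on with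
  | empty =>
    intro e he
    obtain ⟨e0, he0⟩ : ∃ e0 : E, e0 = 1 := ⟨1, rfl⟩
    rw [hΦ (show Φ e = Φ e0 from funext fun j => by
      rw [he j (Finset.notMem_empty _), he0]
      refine eq_comm.1 (Eq.symm ?_)
      have h := (htfun 1 (b.ey j.1 1) j.1).1
      rw [OneMemClass.coe_one, act_one, b.cx_ey, b.cy_ey, zero_add, mul_one] at h
      exact h), he0]
    exact one_mem Z
  | insert j s hjs ih =>
    intro e he
    have hav' : b.av j.1 (-t e j.1) ∈ Z := hZ j _
    have hle : Z ≤ E := sSup_le fun B hB => hB.1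
    set e' : E := e * ⟨_, hle hav'⟩ with he'
    have hte : ∀ k : Act, Φ e' k = t e k + if k = j then -t e j.1 else 0 := fun k => by
      have h := (htfun e' (b.ey k.1 1) k.1).1
      rw [b.cx_ey, b.cy_ey, zero_add, mul_one] at h
      show t e' k = _
      rw [← h, he', Subgroup.coe_mul, act_mul, b.av_act, map_add (ρ (e : P)), map_add, (htfun e _ _).1,
        (htfun e _ _).1, b.cx_ey, b.cy_ey, b.cy_ex, zero_add, mul_one, mul_zero, add_zero]
      by_cases hk : k = j
      · subst hk; rw [if_pos rfl, b.cx_ex, b.cy_ey, mul_one]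
      · rw [if_neg hk, b.cx_ex_ne (fun h => hk (Subtype.ext h))]
    have h2 := ih e' fun k hk => by
      rw [hte]
      by_cases hkj : k = j
      · subst hkj; rw [if_pos rfl, add_neg_cancel]
      · rw [if_neg hkj, add_zero]; exact he k (by simp [hkj, hk])
    have h3 := Z.mul_mem h2 (Z.inv_mem hav')
    rwa [he', Subgroup.coe_mul, mul_inv_cancel_right] at h3

end Blocks

end CfsgLib.RootBlocks
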