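import Cfsg.Agent.Lib.RootCommute.Module
import Mathlib.Algebra.BigOperators.Group.Finset.Basic
import Mathlib.GroupTheory.Index
import Mathlib.GroupTheory.GroupAction.Quotient

/-!
An elementary abelian group permuting a basis of a space over the field with two elements does not gain, and one
breaking even is generated by transpositions.
-/

set_option autoImplicit false
set_option linter.unusedSectionVars false

namespace CfsgLib.RootBlocks

open CfsgLib CfsgLib.RootCommute
open CfsgLib.SL2Pair (fix)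

universe u v

variable {P : Type u} [Group P] [Finite P] {U : Type v} [AddCommGroup U] [Finite U] {ρ : P →* AddMonoid.End U}

variable (ρ) in
/-- A basis given by subset sums. -/
structure PermBasis (Ω : Finset U) : Prop where
  span : ∀ u : U, ∃ s ⊆ Ω, ∑ f ∈ s, f = u
  unique : ∀ s ⊆ Ω, ∀ s' ⊆ Ω, ∑ f ∈ s, f = ∑ f ∈ s', f → s = s'

variable (ρ) in
/-- An element exchanging two basis vectors and fixing the others. -/
def IsSwap' (Ω : Finset U) (a : P) : Prop :=
  ∃ e ∈ Ω, ∃ f ∈ Ω, e ≠ f ∧ ρ a e = f ∧ ρ a f = e ∧ ∀ g ∈ Ω, g ≠ e → g ≠ f → ρ a g = g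

variable {Ω : Finset U}

theorem le_two_pow_pred (k : ℕ) : k ≤ 2 ^ (k - 1) := by
  rcases k with _ | k
  · exact Nat.zero_le _
  · exact (Nat.lt_two_pow_self (n := k)).trans_eq (by rw [Nat.add_sub_cancel])

theorem eq_two_of_eq {k : ℕ} (hk : 2 ≤ k) (h : 2 ^ (k - 1) ≤ k) : k = 2 := by
  by_contra hne
  obtain ⟨j, rfl⟩ : ∃ j, k = j + 3 := ⟨k - 3, by omega⟩
  rw [show j + 3 - 1 = j + 2 from rfl, pow_add] at h
  have := Nat.lt_two_pow_self (n := j)
  omega

/-- Adding a set without invariant part to fixed vectors. -/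
theorem card_mul_le [DecidableEq U] (hU : ∀ x : U, 2 • x = 0) (hb : PermBasis Ω) {A A' : Subgroup P} (hA : A' ≤ A)
    (hinv : ∀ a ∈ A, ∀ e ∈ Ω, ρ a e ∈ Ω) {R : Finset U} (hR : R ⊆ Ω) (hfix : ∀ r ∈ R, r ∈ fix ρ A')
    (hnone : ∀ s ⊆ R, (∀ a ∈ A, ∀ e ∈ s, ρ a e ∈ s) → s = ∅) :
    Nat.card (fix ρ A) * 2 ^ R.card ≤ Nat.card (fix ρ A') := by
  classical
  let Φ : ↥(fix ρ A) × ↥R.powerset → ↥(fix ρ A') := fun z =>
    ⟨(z.1 : U) + ∑ r ∈ (z.2 : Finset U), r, add_mem (fix_antitone ρ hA z.1.2)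
      (sum_mem fun r hr => hfix r (Finset.mem_powerset.1 z.2.2 hr))⟩
  have hΦ : Function.Injective Φ := by
    rintro ⟨u, r, hr⟩ ⟨u', r', hr'⟩ he
    have he' : (u : U) + ∑ x ∈ r, x = (u' : U) + ∑ x ∈ r', x := congrArg Subtype.val he
    rw [Finset.mem_powerset] at hr hr'
    set d := (r \ r') ∪ (r' \ r) with hd
    have hneg : ∀ x : U, -x = x := fun x => neg_eq_of_add_eq_zero_left (by rw [← two_nsmul]; exact hU x)
    have hdd : ∑ x ∈ d, x = ∑ x ∈ r, x + ∑ x ∈ r', x := by
      have h1 := Finset.sum_inter_add_sum_sdiff r r' (f := fun x : U => x)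
      have h2 := Finset.sum_inter_add_sum_sdiff r' r (f := fun x : U => x)
      rw [Finset.inter_comm] at h2
      rw [hd, Finset.sum_union disjoint_sdiff_sdiff, ← h1, ← h2,
        show ∀ a b c : U, a + b + (a + c) = a + a + (b + c) from fun a b c => by abel, ← two_nsmul, hU, zero_add]
    have hfd : ∑ x ∈ d, x ∈ fix ρ A := by
      have : (∑ x ∈ r, x) + ∑ x ∈ r', x = (u' : U) - u := by
        rw [← sub_eq_zero]
        calc (∑ x ∈ r, x) + ∑ x ∈ r', x - ((u' : U) - u) = ((u : U) + ∑ x ∈ r, x) + ((∑ x ∈ r', x) - u') := by abel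
          _ = ((u' : U) + ∑ x ∈ r', x) + ((∑ x ∈ r', x) - u') := by rw [he']
          _ = (∑ x ∈ r', x) + ∑ x ∈ r', x := by abel
          _ = 0 := by rw [← two_nsmul, hU]
      rw [hdd, this]
      exact sub_mem u'.2 u.2
    have hdR : d ⊆ R := Finset.union_subset (Finset.sdiff_subset.trans hr) (Finset.sdiff_subset.trans hr')
    have hd0 : d = ∅ := hnone d hdR fun a ha e hed => by
      have h1 : ∑ x ∈ d.image (fun x => ρ a x), x = ∑ x ∈ d, x := by
        rw [Finset.sum_image (act_injective ρ a).injOn]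
        rw [← map_sum]; exact hfd a ha
      have h2 := hb.unique _ (fun y hy => by
        obtain ⟨x, hx, rfl⟩ := Finset.mem_image.1 hy
        exact hinv a ha x (hR (hdR hx))) d (hdR.trans hR) h1
      exact h2 ▸ Finset.mem_image_of_mem _ hed
    have hrr : r = r' := by
      rw [hd, Finset.union_eq_empty, Finset.sdiff_eq_empty_iff_subset, Finset.sdiff_eq_empty_iff_subset] at hd0
      exact Finset.Subset.antisymm hd0.1 hd0.2
    subst hrr
    exact Prod.ext (Subtype.ext (add_right_cancel he')) rfl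
  have := Nat.card_le_card_of_injective Φ hΦ
  rwa [Nat.card_prod, Nat.card_eq_fintype_card (α := ↥R.powerset), Fintype.card_coe, Finset.card_powerset] at this

/-- **The bound.** -/
theorem perm_bound (hρ : Function.Injective ρ) (hU : ∀ x : U, 2 • x = 0) (hb : PermBasis Ω) (A : Subgroup P)
    (hinv : ∀ a ∈ A, ∀ e ∈ Ω, ρ a e ∈ Ω) (hc : ∀ a ∈ A, ∀ c ∈ A, a * c = c * a) (hp : ∀ a ∈ A, a ^ 2 = 1) :
    mu ρ A ≤ Nat.card U ∧ (Nat.card U ≤ mu ρ A → A ≤ Subgroup.closure {a | a ∈ A ∧ IsSwap' ρ Ω a}) := by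
  classical
  induction hn : Nat.card A using Nat.strong_induction_on generalizing A with
  | _ n ih =>
  by_cases hA : A = ⊥
  · subst hA
    refine ⟨?_, fun _ => bot_le⟩
    rw [mu, Subgroup.card_bot, one_mul]
    exact Nat.card_le_card_of_injective _ Subtype.val_injective
  -- a moved point and its orbit
  have hmoved : ∃ ω ∈ Ω, ∃ a ∈ A, ρ a ω ≠ ω := by
    by_contra hno
    push Not at hno
    refine hA ((Subgroup.eq_bot_iff_forall A).2 fun a ha => act_ext ρ hρ fun u => ?_)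
    obtain ⟨s, hs, rfl⟩ := hb.span u
    rw [RootCommute.act_one, map_sum]
    exact Finset.sum_congr rfl fun e he => hno e (hs he) a ha
  have step : ∀ ω ∈ Ω, (∃ a ∈ A, ρ a ω ≠ ω) →
      mu ρ A ≤ Nat.card U ∧ (Nat.card U ≤ mu ρ A →
        (∃ g ∈ A, ρ g ω ≠ ω ∧ (∀ a ∈ A, ρ a ω = ω ∨ ρ a ω = ρ g ω) ∧ ρ g (ρ g ω) = ω) ∧
        A ⊓ pointStab ρ ω ≤ Subgroup.closure {a | a ∈ A ∧ IsSwap' ρ Ω a}) := by
    intro ω hω hmov
    set A₁ := A ⊓ pointStab ρ ω with hA₁
    set O := Ω.filter fun y => ∃ a ∈ A, ρ a ω = y with hO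
    have hωO : ω ∈ O := Finset.mem_filter.2 ⟨hω, 1, one_mem _, RootCommute.act_one ρ ω⟩
    have hfixO : ∀ y ∈ O, y ∈ fix ρ A₁ := by
      intro y hy a ha
      obtain ⟨-, b, hb', rfl⟩ := Finset.mem_filter.1 hy
      rw [← act_mul, hc a ha.1 b hb', act_mul, show ρ a ω = ω from ha.2]
    have hcard : Nat.card A = Nat.card A₁ * O.card := by
      letI : MulAction A U :=
        { smul := fun g u => ρ (g : P) u
          one_smul := fun u => RootCommute.act_one ρ u
          mul_smul := fun g h u => act_mul ρ _ _ u }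
      rw [← (MulAction.stabilizer A ω).card_mul_index, MulAction.index_stabilizer]
      congr 1
      · exact Nat.card_congr
          { toFun := fun x => ⟨(x : A), (x : A).2, x.2⟩
            invFun := fun x => ⟨⟨x, x.2.1⟩, x.2.2⟩
            left_inv := fun x => rfl
            right_inv := fun x => rfl }
      · rw [← Set.ncard_coe_finset]
        refine congrArg Set.ncard (Set.ext fun y => ⟨?_, fun hy => ?_⟩)
        · rintro ⟨a, rfl⟩; exact Finset.mem_filter.2 ⟨hinv a a.2 ω hω, a, a.2, rfl⟩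
        · obtain ⟨-, a, ha, rfl⟩ := Finset.mem_filter.1 hy; exact ⟨⟨a, ha⟩, rfl⟩
    have hcm := card_mul_le (A := A) (A' := A₁) hU hb inf_le_left hinv (R := O.erase ω)
      ((Finset.erase_subset _ _).trans (Finset.filter_subset _ _))
      (fun r hr => hfixO r (Finset.mem_of_mem_erase hr)) (fun s hs hsi => by
        by_contra hne
        obtain ⟨y, hy⟩ := Finset.nonempty_iff_ne_empty.2 hne
        obtain ⟨-, a, ha, hay⟩ := Finset.mem_filter.1 (Finset.mem_of_mem_erase (hs hy))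
        have := hsi a⁻¹ (inv_mem ha) y hy
        rw [← hay, act_inv] at this
        exact Finset.notMem_erase ω O (hs this))
    rw [Finset.card_erase_of_mem hωO] at hcm
    have hO2 : 2 ≤ O.card := by
      obtain ⟨a, ha, hne⟩ := hmov
      have : ({ω, ρ a ω} : Finset U) ⊆ O := by
        intro y hy
        rcases Finset.mem_insert.1 hy with rfl | hy
        · exact hωO
        · rw [Finset.mem_singleton.1 hy]; exact Finset.mem_filter.2 ⟨hinv a ha ω hω, a, ha, rfl⟩
      exact (Finset.card_pair hne.symm).symm.le.trans (Finset.card_le_card this)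
    have hpos : 0 < Nat.card A₁ := Nat.card_pos
    have hlt : Nat.card A₁ < n := by
      rw [← hn, hcard]; exact lt_mul_of_one_lt_right hpos hO2
    have hinv₁ : ∀ a ∈ A₁, ∀ e ∈ Ω, ρ a e ∈ Ω := fun a ha => hinv a ha.1
    obtain ⟨h1, h2⟩ := ih _ hlt A₁ hinv₁ (fun a ha c hc' => hc a ha.1 c hc'.1) (fun a ha => hp a ha.1) rfl
    have hk := le_two_pow_pred O.card
    have e1 : mu ρ A ≤ Nat.card A₁ * (Nat.card (fix ρ A) * 2 ^ (O.card - 1)) := by
      rw [mu, hcard, mul_assoc, mul_comm O.card]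
      exact Nat.mul_le_mul_left _ (Nat.mul_le_mul_left _ hk)
    have e2 : Nat.card A₁ * (Nat.card (fix ρ A) * 2 ^ (O.card - 1)) ≤ mu ρ A₁ := Nat.mul_le_mul_left _ hcm
    refine ⟨e1.trans (e2.trans h1), fun hge => ⟨?_, ?_⟩⟩
    · have hmu : Nat.card A₁ * (Nat.card (fix ρ A) * 2 ^ (O.card - 1)) ≤ mu ρ A := (e2.trans h1).trans hge
      rw [mu, hcard, mul_assoc, mul_comm O.card] at hmu
      have h3 := Nat.le_of_mul_le_mul_left (Nat.le_of_mul_le_mul_left hmu hpos) Nat.card_pos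
      have hk2 := eq_two_of_eq hO2 h3
      obtain ⟨g, hg, hgne⟩ := hmov
      have hgO : ρ g ω ∈ O := Finset.mem_filter.2 ⟨hinv g hg ω hω, g, hg, rfl⟩
      have hOeq : O = {ω, ρ g ω} := (Finset.eq_of_subset_of_card_le (by
        intro y hy
        rcases Finset.mem_insert.1 hy with rfl | hy
        · exact hωO
        · rw [Finset.mem_singleton.1 hy]; exact hgO) (by rw [hk2, Finset.card_pair hgne.symm])).symm
      refine ⟨g, hg, hgne, fun a ha => ?_, by rw [← act_mul, ← pow_two, hp g hg, RootCommute.act_one]⟩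
      have : ρ a ω ∈ O := Finset.mem_filter.2 ⟨hinv a ha ω hω, a, ha, rfl⟩
      rw [hOeq] at this
      simpa using this
    · refine (h2 (hge.trans (e1.trans e2))).trans (Subgroup.closure_mono ?_)
      exact fun a ha => ⟨ha.1.1, ha.2⟩
  obtain ⟨ω, hω, hωm⟩ := hmoved
  obtain ⟨h1, h2⟩ := step ω hω hωm
  refine ⟨h1, fun hge => ?_⟩
  obtain ⟨⟨g, hg, hgω, hgall, hgg⟩, hst⟩ := h2 hge
  set S := Subgroup.closure {a | a ∈ A ∧ IsSwap' ρ Ω a}
  -- either two stabilisers or one swap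
  by_cases hdiff : ∃ y ∈ Ω, (∃ a ∈ A, ρ a y ≠ y) ∧ ∃ a ∈ A, ρ a y = y ∧ ρ a ω ≠ ω
  · obtain ⟨y, hy, hym, a₀, ha₀, ha₀y, ha₀ω⟩ := hdiff
    obtain ⟨-, hst'⟩ := (step y hy hym).2 hge
    intro a ha
    rcases hgall a ha with h0 | h0
    · exact hst ⟨ha, h0⟩
    · have h3 : a₀ ∈ S := hst' ⟨ha₀, ha₀y⟩
      have h4 : a₀⁻¹ * a ∈ S := hst ⟨A.mul_mem (A.inv_mem ha₀) ha, by
        show ρ (a₀⁻¹ * a) ω = ω
        rw [act_mul, h0, ← (hgall a₀ ha₀).resolve_left ha₀ω, act_inv]⟩
      simpa using mul_mem h3 h4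
  push Not at hdiff
  -- one moved orbit
  have hfaith : ∀ a ∈ A, ρ a ω = ω → a = 1 := by
    intro a ha haω
    refine act_ext ρ hρ fun u => ?_
    obtain ⟨s, hs, rfl⟩ := hb.span u
    rw [RootCommute.act_one, map_sum]
    refine Finset.sum_congr rfl fun y hy => ?_
    by_contra hne
    obtain ⟨g', hg', hg'ne, hg'all, -⟩ := ((step y (hs hy) ⟨a, ha, hne⟩).2 hge).1
    -- `g` moves `ω`, so it moves `y`, and then `g a` fixes `y` but not `ω`
    have hgy : ρ g y = ρ a y := by
      rcases hg'all g hg with h0 | h0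
      · exact absurd (hdiff y (hs hy) ⟨a, ha, hne⟩ g hg h0) hgω
      · rw [h0, (hg'all a ha).resolve_left hne]
    have h5 := hdiff y (hs hy) ⟨a, ha, hne⟩ (g⁻¹ * a) (mul_mem (inv_mem hg) ha) (by rw [act_mul, ← hgy, act_inv])
    rw [act_mul, haω] at h5
    exact hgω (by conv_lhs => rw [← h5, act_inv'])
  have hall : ∀ a ∈ A, a = 1 ∨ a = g := fun a ha => (hgall a ha).imp (hfaith a ha) fun h0 =>
    (inv_mul_eq_one.1 (hfaith (g⁻¹ * a) (mul_mem (inv_mem hg) ha) (by rw [act_mul, h0, act_inv]))).symm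
  intro a ha
  rcases hall a ha with rfl | rfl
  · exact one_mem _
  refine Subgroup.subset_closure ⟨ha, ω, hω, ρ a ω, hinv a ha ω hω, hgω.symm, rfl, hgg, fun y hy hy1 hy2 => ?_⟩
  by_contra hne
  have hgy : ρ a (ρ a y) = y := by rw [← act_mul, ← pow_two, hp a ha, RootCommute.act_one]
  have hcm := card_mul_le (A := A) (A' := ⊥) hU hb bot_le hinv (R := {ω, y})
    (by
      intro z hz
      rcases Finset.mem_insert.1 hz with rfl | hz
      · exact hω
      · rw [Finset.mem_singleton.1 hz]; exact hy)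
    (fun z _ k hk => by rw [Subgroup.mem_bot.1 hk, RootCommute.act_one])
    (fun s hs hsi => by
      by_contra hse
      obtain ⟨z, hz⟩ := Finset.nonempty_iff_ne_empty.2 hse
      have hz1 := hs hz
      have hz2 := hs (hsi a ha z hz)
      simp only [Finset.mem_insert, Finset.mem_singleton] at hz1 hz2
      rcases hz1 with rfl | rfl <;> rcases hz2 with h0 | h0
      · exact hgω h0
      · exact hy2 h0.symm
      · exact hy2 (by rw [← h0, hgy])
      · exact hne h0)
  rw [Finset.card_pair (Ne.symm hy1)] at hcm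
  have hA2 : Nat.card A ≤ 2 := by
    refine (Nat.card_le_card_of_surjective (fun b : Bool => if b then (⟨a, ha⟩ : A) else 1) fun x => ?_).trans
      (by simp)
    rcases hall x x.2 with h0 | h0
    · exact ⟨false, Subtype.ext h0.symm⟩
    · exact ⟨true, Subtype.ext h0.symm⟩
  have h6 : Nat.card (fix ρ (⊥ : Subgroup P)) ≤ Nat.card U := Nat.card_le_card_of_injective _ Subtype.val_injective
  have h7 : mu ρ A ≤ 2 * Nat.card (fix ρ A) := Nat.mul_le_mul_right _ hA2
  have hpos : 0 < Nat.card (fix ρ A) := Nat.card_pos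
  omega

end CfsgLib.RootBlocks
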