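import Cfsg.Agent.Lib.RootBlocks.Split

/-!
The faithful irreducible situation, the situation over it, and what it gives. (Definitions only.)
-/

set_option autoImplicit false
set_option linter.unusedSectionVars false

namespace CfsgLib.RootBlocks

open CfsgLib CfsgLib.RootCommute
open CfsgLib.SL2Pair (fix)
open CfsgLib.StrongFusion (cm)

universe u v

variable {P : Type u} [Group P] [Finite P] {U : Type v} [AddCommGroup U] [Finite U]
  {p : ℕ} [hp : Fact p.Prime]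

/-- A faithful module for a group with one maximal subgroup over a Sylow subgroup. -/
structure Over (ρ : P →* AddMonoid.End U) (T : Sylow p P) (M : Subgroup P) : Prop where
  inj : Function.Injective ρ
  smul_zero : ∀ x : U, p • x = 0
  le_M : (T : Subgroup P) ≤ M
  M_ne : M ≠ ⊤
  over_le : ∀ H : Subgroup P, (T : Subgroup P) ≤ H → H ≠ ⊤ → H ≤ M
  no_core : ∀ N : Subgroup P, N.Normal → IsPGroup p N → N = ⊥

/-- The same with no fixed vectors and no fixed quotient. -/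
structure Irr (ρ : P →* AddMonoid.End U) (T : Sylow p P) (M : Subgroup P) : Prop where
  base : Over ρ T M
  no_fixed : ∀ x : U, (∀ g, ρ g x = x) → x = 0
  full : ∀ W : AddSubgroup U, (∀ g x, ρ g x - x ∈ W) → W = ⊤

/-- An elementary abelian subgroup of `T` that does not lose. -/
def HasOffender (ρ : P →* AddMonoid.End U) (T : Sylow p P) : Prop :=
  ∃ A : Subgroup P, A ≤ (T : Subgroup P) ∧ (∀ a ∈ A, ∀ c ∈ A, a * c = c * a) ∧ (∀ a ∈ A, a ^ p = 1) ∧ A ≠ ⊥ ∧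
    Nat.card U ≤ mu ρ A

/-- Every irreducible situation with an offender is split. -/
def HasSplit (p : ℕ) [Fact p.Prime] : Prop :=
  ∀ (P : Type u) [Group P] [Finite P] (U : Type v) [AddCommGroup U] [Finite U] (ρ : P →* AddMonoid.End U)
    (T : Sylow p P) (M : Subgroup P), Irr ρ T M → HasOffender ρ T →
      ∃ (ι : Type u) (_ : Fintype ι), Nonempty (Split ρ T ι)

/-- A component is `SL₂` or a symmetric group, natural on its displacements modulo the fixed ones. -/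
def IsSectionComponent (p : ℕ) (ρ : P →* AddMonoid.End U) (E : Subgroup P) : Prop :=
  ∃ n : ℕ, 1 ≤ n ∧
    ((∃ (F : Type) (_ : Field F) (_ : Fintype F) (e : ↥E ≃* Matrix.SpecialLinearGroup (Fin 2) F)
        (ψ : ↥(img ρ E) →+ (Fin 2 → F)), Fintype.card F = p ^ n ∧ Function.Surjective ψ ∧
          (∀ u : ↥(img ρ E), ψ u = 0 ↔ (u : U) ∈ fix ρ E) ∧
          ∀ (g : ↥E) (u v : ↥(img ρ E)), (v : U) = ρ (g : P) u → ψ v = (e g).1.mulVec (ψ u)) ∨
      (p = 2 ∧ ∃ (e : ↥E ≃* Equiv.Perm (Fin (2 ^ n + 1))) (ψ : ↥(img ρ E) →+ (Fin (2 ^ n + 1) → ZMod 2)),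
          (∀ u, ∑ i, ψ u i = 0) ∧ (∀ w : Fin (2 ^ n + 1) → ZMod 2, ∑ i, w i = 0 → ∃ u, ψ u = w) ∧
            (∀ u : ↥(img ρ E), ψ u = 0 ↔ (u : U) ∈ fix ρ E) ∧
            ∀ (g : ↥E) (u v : ↥(img ρ E)) (i : Fin (2 ^ n + 1)), (v : U) = ρ (g : P) u → ψ v i = ψ u ((e g)⁻¹ i)))

/-- What holds on the whole module. -/
structure Lifted (ρ : P →* AddMonoid.End U) (T : Sylow p P) : Prop where
  exists_components : ∃ (r : ℕ) (E : Fin r → Subgroup P), 1 ≤ r ∧
    (∀ i j, i ≠ j → ∀ g ∈ E i, ∀ k ∈ E j, g * k = k * g) ∧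
    (∀ i, E i ⊓ (⨆ j ∈ {j | j ≠ i}, E j) = ⊥) ∧
    (⨆ i, E i) ⊔ (T : Subgroup P) = ⊤ ∧
    (∀ i j, ∃ t ∈ (T : Subgroup P), cm t (E i) = E j) ∧
    fix ρ (⨆ i, E i) ⊔ (⨆ i, img ρ (E i)) = ⊤ ∧
    (∀ i j, i ≠ j → img ρ (E i) ≤ fix ρ (E j)) ∧
    ∀ i, IsSectionComponent p ρ (E i)
  moved : ∃ z ∈ fix ρ (T : Subgroup P), ∃ g, ρ g z ≠ z

end CfsgLib.RootBlocks
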