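import Cfsg.Agent.Lib.RootCommute.Module
import Cfsg.Agent.Lib.Basic
import Mathlib.LinearAlgebra.Matrix.SpecialLinearGroup
import Mathlib.GroupTheory.Perm.Basic
import Mathlib.Data.ZMod.Basic

/-!
What a faithful irreducible module with an offender gives for a group with one maximal subgroup over a Sylow
subgroup: commuting components and their root subgroups. (Definitions only.)
-/

set_option autoImplicit false
set_option linter.unusedSectionVars false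

namespace CfsgLib.RootBlocks

open CfsgLib CfsgLib.RootCommute
open CfsgLib.SL2Pair (fix)
open CfsgLib.StrongFusion (cm)

universe u v w

variable {P : Type u} [Group P] [Finite P] {U : Type v} [AddCommGroup U] [Finite U]
  {p : ℕ} [hp : Fact p.Prime]

/-- A component is `SL₂` or a symmetric group on its natural module. -/
def IsNaturalComponent (p : ℕ) (ρ : P →* AddMonoid.End U) (E : Subgroup P) : Prop :=
  ∃ n : ℕ, 1 ≤ n ∧
    ((∃ (F : Type) (_ : Field F) (_ : Fintype F) (e : ↥E ≃* Matrix.SpecialLinearGroup (Fin 2) F)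
        (ψ : U →+ (Fin 2 → F)), Fintype.card F = p ^ n ∧ Function.Surjective ψ ∧ (∀ u, ψ u = 0 ↔ u ∈ fix ρ E) ∧
          ∀ (g : ↥E) u, ψ (ρ (g : P) u) = (e g).1.mulVec (ψ u)) ∨
      (p = 2 ∧ ∃ (e : ↥E ≃* Equiv.Perm (Fin (2 ^ n + 1))) (ψ : U →+ (Fin (2 ^ n + 1) → ZMod 2)),
          (∀ u, ∑ i, ψ u i = 0) ∧ (∀ w : Fin (2 ^ n + 1) → ZMod 2, ∑ i, w i = 0 → ∃ u, ψ u = w) ∧
            (∀ u, ψ u = 0 ↔ u ∈ fix ρ E) ∧ ∀ (g : ↥E) u i, ψ (ρ (g : P) u) i = ψ u ((e g)⁻¹ i)))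

/-- The components and the root subgroups in the Sylow subgroup. -/
structure Split (ρ : P →* AddMonoid.End U) (T : Sylow p P) (ι : Type w) [Fintype ι] where
  E : ι → Subgroup P
  mem : Set (Subgroup P)
  nonempty : Nonempty ι
  mem_le : ∀ B ∈ mem, B ≤ (T : Subgroup P)
  mem_ne : ∀ B ∈ mem, B ≠ ⊥
  mem_conj : ∀ B ∈ mem, ∀ B' ∈ mem, ∃ g, cm g B = B'
  mem_perm : ∀ t ∈ (T : Subgroup P), ∀ B ∈ mem, cm t B ∈ mem
  idx : ∀ B ∈ mem, Nat.card U = Nat.card B * Nat.card (fix ρ B)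
  ker : ∀ B ∈ mem, ∀ x ∈ B, x ≠ 1 → ∀ u, ρ x u = u → u ∈ fix ρ B
  quad : ∀ B ∈ mem, ∀ B' ∈ mem, img ρ B ≤ fix ρ B'
  img_indep : ∀ B ∈ mem, img ρ B ⊓ (⨆ B' ∈ {B' | B' ∈ mem ∧ B' ≠ B}, img ρ B') = ⊥
  span : ∀ B ∈ mem, fix ρ B ≤ (⨆ B' ∈ mem, img ρ B') ⊔
    AddSubgroup.closure {w | ∃ g ∈ ⨆ i, E i, (∀ x ∈ B, g * x = x * g) ∧ ∃ u ∈ fix ρ B, w = ρ g u - u}
  /-- No elementary abelian subgroup of the Sylow subgroup gains, and one breaking even is generated by root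
  subgroups. -/
  bound : ∀ A : Subgroup P, A ≤ (T : Subgroup P) → (∀ a ∈ A, ∀ c ∈ A, a * c = c * a) → (∀ a ∈ A, a ^ p = 1) →
    mu ρ A ≤ Nat.card U ∧ (Nat.card U ≤ mu ρ A → A ≤ sSup {B | B ≤ A ∧ B ∈ mem})
  /-- Each component is generated by few conjugates of root subgroups. -/
  gens : ∀ i, ∃ s : Finset (Subgroup P), (∀ B ∈ s, ∃ g, ∃ B₀ ∈ mem, cm g B₀ = B) ∧ E i = s.sup id ∧
    Nat.card (fix ρ (E i)) * ∏ B ∈ s, Nat.card B ≤ Nat.card U
  comm : ∀ i j, i ≠ j → ∀ g ∈ E i, ∀ k ∈ E j, g * k = k * g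
  other : ∀ i j, i ≠ j → img ρ (E i) ≤ fix ρ (E j)
  fix_bot : fix ρ (⨆ i, E i) = ⊥
  span_top : (⨆ i, img ρ (E i)) = ⊤
  sup : (⨆ i, E i) ⊔ (T : Subgroup P) = ⊤
  trans : ∀ i j, ∃ t ∈ (T : Subgroup P), cm t (E i) = E j
  natural : ∀ i, IsNaturalComponent p ρ (E i)
  /-- Root subgroups lie in the components. -/
  comp_mem : ∀ B ∈ mem, B ≤ ⨆ i, E i
  /-- The product of the components is normal. -/
  join_normal : (⨆ i, E i).Normal

end CfsgLib.RootBlocks
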