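import Cfsg.Agent.Lib.RootBlocks.Bound
import Cfsg.Agent.Lib.RootBlocks.Split
import Cfsg.Agent.Lib.SL2Pair
import Cfsg.Agent.Lib.ZJFailure.Section
import Mathlib.FieldTheory.Finite.Basic

/-!
Natural blocks give a splitting.
-/

set_option autoImplicit false
set_option linter.unusedSectionVars false
set_option linter.style.haveILetI false

namespace CfsgLib.RootBlocks

open CfsgLib CfsgLib.RootCommute
open CfsgLib.SL2Pair (fix up lo up_mulVec lo_mulVec iso_of_coords)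
open CfsgLib.StrongFusion (cm cm_cm cm_one cm_inv_cm cm_mono)

universe u v w

variable {P : Type u} [Group P] [Finite P] {U : Type v} [AddCommGroup U] [Finite U] {p : ℕ} [hp : Fact p.Prime]
  {ρ : P →* AddMonoid.End U} {T : Sylow p P} {ι : Type w} [Fintype ι] {F : Type} [Field F] [Fintype F]

namespace Blocks

variable (b : Blocks ρ T ι F)
include b

theorem exists_pow : ∃ n : ℕ, 1 ≤ n ∧ Fintype.card F = p ^ n := by
  obtain ⟨r, hr⟩ := CharP.exists F
  obtain ⟨n, hrp, hn⟩ := FiniteField.card F r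
  have h1 : r ∣ p := (CharP.cast_eq_zero_iff F r p).1 b.cast_zero
  rw [(Nat.prime_dvd_prime_iff_eq hrp hp.out).1 h1] at hn
  exact ⟨n, n.2, hn⟩

theorem mem_fix_grp (i : ι) {u : U} : u ∈ fix ρ (b.grp i) ↔ b.cx i u = 0 ∧ b.cy i u = 0 := by
  constructor
  · intro h
    refine ⟨?_, (b.fix_A i).1 (fix_antitone ρ (b.A_le_grp i) h)⟩
    have h1 := h _ (b.rv_mem i 1)
    rw [b.rv_act, add_eq_left, one_mul] at h1
    have h2 := congrArg (b.cy i) h1
    rwa [b.cy_ey, map_zero] at h2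
  · rintro ⟨h1, h2⟩ g hg
    rw [b.act_eq hg, h1, h2]
    simp

theorem grp_comm {i j : ι} (hij : i ≠ j) {g k : P} (hg : g ∈ b.grp i) (hk : k ∈ b.grp j) : g * k = k * g := by
  refine act_ext ρ b.inj fun u => ?_
  have hi : ∀ v, ρ g v - v ∈ b.space i := fun v => b.img_grp i ▸ sub_mem_img ρ hg v
  have hj : ∀ v, ρ k v - v ∈ b.space j := fun v => b.img_grp j ▸ sub_mem_img ρ hk v
  have hfix : ∀ {a c : ι}, a ≠ c → ∀ {z : U}, z ∈ b.space a → z ∈ fix ρ (b.grp c) := fun hac z hz =>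
    (b.mem_fix_grp _).2 (b.mem_space.1 hz _ hac.symm)
  have e1 := hfix hij.symm (hj u) g hg
  have e2 := hfix hij (hi u) k hk
  rw [map_sub] at e1 e2
  rw [act_mul, act_mul, sub_eq_iff_eq_add.1 e1, sub_eq_iff_eq_add.1 e2]
  abel

theorem rv_neg_swap (i : ι) (t : F) : b.av i 1 * b.rv i (-1) * b.av i 1 * b.av i t =
    b.rv i (-t) * (b.av i 1 * b.rv i (-1) * b.av i 1) := by
  refine act_ext ρ b.inj fun u => b.ext_coords fun j => ?_
  classical
  by_cases hj : j = i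
  · subst hj
    simp only [act_mul, b.av_act, b.rv_act, map_add, b.cx_ex, b.cy_ex, b.cx_ey, b.cy_ey, add_zero, one_mul]
    constructor <;> ring
  · simp only [act_mul, b.av_act, b.rv_act, map_add, b.cx_ex_ne hj, b.cy_ex, b.cx_ey, b.cy_ey_ne hj, add_zero]
    exact ⟨trivial, trivial⟩

theorem cm_A_eq (i : ι) :
    cm (b.av i 1 * b.rv i (-1) * b.av i 1) (b.A i) = Subgroup.closure (Set.range (b.rv i)) := by
  set w := b.av i 1 * b.rv i (-1) * b.av i 1 with hw
  have h : ∀ t, w * b.av i t * w⁻¹ = b.rv i (-t) := fun t => by rw [hw, b.rv_neg_swap, mul_inv_cancel_right]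
  refine le_antisymm ?_ ((Subgroup.closure_le _).2 ?_)
  · rintro _ ⟨a, ha, rfl⟩
    obtain ⟨t, rfl⟩ := b.av_surj i a ha
    show w * b.av i t * w⁻¹ ∈ _
    rw [h]; exact Subgroup.subset_closure ⟨_, rfl⟩
  · rintro _ ⟨t, rfl⟩
    exact ⟨b.av i (-t), b.av_mem i _, by show w * b.av i (-t) * w⁻¹ = _; rw [h, neg_neg]⟩

theorem natural_grp (i : ι) : IsNaturalComponent p ρ (b.grp i) := by
  classical
  obtain ⟨n, hn1, hn⟩ := b.exists_pow
  let π : U →+ (Fin 2 → F) := AddMonoidHom.mk' (fun u => ![b.cx i u, b.cy i u]) fun u v => by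
    ext k; fin_cases k <;> simp
  let Φ : (Fin 2 → F) →+ U := AddMonoidHom.mk' (fun c => b.ex i (c 0) + b.ey i (c 1)) fun c d => by
    simp only [Pi.add_apply, map_add]; abel
  have hπΦ : ∀ c, π (Φ c) = c := fun c => by
    ext k; fin_cases k <;> simp [π, Φ, b.cx_ex, b.cy_ex, b.cx_ey, b.cy_ey]
  have hker : ∀ u, π u = 0 ↔ u ∈ fix ρ (b.grp i) := fun u => by
    rw [b.mem_fix_grp]
    refine ⟨fun h => ⟨congrFun h 0, congrFun h 1⟩, fun h => ?_⟩
    ext k; fin_cases k <;> simp [π, h.1, h.2]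
  have hdec : ∀ u, u - Φ (π u) ∈ fix ρ (b.grp i) := fun u => (hker _).1 (by rw [map_sub, hπΦ, sub_self])
  have hπg : ∀ g ∈ b.grp i, ∀ u, π (ρ g u) = π (ρ g (Φ (π u))) := fun g hg u => by
    have h := hdec u g hg
    conv_lhs => rw [show u = Φ (π u) + (u - Φ (π u)) by abel, map_add, h, map_add, map_sub, hπΦ, sub_self, add_zero]
  let τ : ↥(b.grp i) →* AddMonoid.End (Fin 2 → F) :=
    { toFun := fun g => π.comp ((ρ (g : P) : U →+ U).comp Φ)
      map_one' := AddMonoidHom.ext fun c => by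
        show π (ρ ((1 : ↥(b.grp i)) : P) (Φ c)) = c
        rw [OneMemClass.coe_one, act_one, hπΦ]
      map_mul' := fun g k => AddMonoidHom.ext fun c => by
        show π (ρ ((g : P) * k) (Φ c)) = π (ρ (g : P) (Φ (π (ρ (k : P) (Φ c)))))
        rw [act_mul, hπg g g.2] }
  have hτ : ∀ (g : ↥(b.grp i)) u, τ g (π u) = π (ρ (g : P) u) := fun g u => (hπg g g.2 u).symm
  have hinj : Function.Injective τ := (injective_iff_map_eq_one τ).2 fun g hg => Subtype.ext
    (act_ext ρ b.inj fun u => by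
      rw [OneMemClass.coe_one, act_one]
      refine b.ext_coords fun j => ?_
      by_cases hj : j = i
      · subst hj
        have h : π (ρ (g : P) u) = π u := by rw [← hτ, hg]; rfl
        exact ⟨congrFun h 0, congrFun h 1⟩
      · have h := b.img_grp i ▸ sub_mem_img ρ g.2 u
        obtain ⟨h1, h2⟩ := b.mem_space.1 h j hj
        exact ⟨sub_eq_zero.1 (by rw [← map_sub]; exact h1), sub_eq_zero.1 (by rw [← map_sub]; exact h2)⟩)
  let S : Set ↥(b.grp i) := {g | (∃ t, (g : P) = b.av i t) ∨ ∃ t, (g : P) = b.rv i t}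
  have hS : Subgroup.closure S = ⊤ := by
    refine Subgroup.map_injective (b.grp i).subtype_injective ?_
    rw [← MonoidHom.range_eq_map, Subgroup.range_subtype]
    refine le_antisymm (Subgroup.map_subtype_le _) ?_
    conv_lhs => rw [b.gen i]
    refine sup_le (fun a ha => ?_) ((Subgroup.closure_le _).2 ?_)
    · obtain ⟨t, rfl⟩ := b.av_surj i a ha
      exact ⟨⟨_, b.A_le_grp i ha⟩, Subgroup.subset_closure (Or.inl ⟨t, rfl⟩), rfl⟩
    · rintro _ ⟨t, rfl⟩
      exact ⟨⟨_, b.rv_mem i t⟩, Subgroup.subset_closure (Or.inr ⟨t, rfl⟩), rfl⟩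
  have hup : ∀ t c, τ ⟨b.av i t, b.A_le_grp i (b.av_mem i t)⟩ c = (up t).1.mulVec c := fun t c => by
    show π (ρ (b.av i t) (Φ c)) = _
    ext k; fin_cases k <;>
      simp [π, Φ, b.av_act, b.cx_ex, b.cy_ex, b.cx_ey, b.cy_ey, (up_mulVec t c).1, (up_mulVec t c).2]
  have hlo : ∀ t c, τ ⟨b.rv i t, b.rv_mem i t⟩ c = (lo t).1.mulVec c := fun t c => by
    show π (ρ (b.rv i t) (Φ c)) = _
    ext k; fin_cases k <;>
      simp [π, Φ, b.rv_act, b.cx_ex, b.cy_ex, b.cx_ey, b.cy_ey, (lo_mulVec t c).1, (lo_mulVec t c).2, add_comm]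
  obtain ⟨e, f, hef⟩ := iso_of_coords τ hinj (AddMonoidHom.id _) Function.bijective_id S hS (by
      rintro g (⟨t, ht⟩ | ⟨t, ht⟩)
      · exact ⟨up t, fun c => by
          rw [show g = ⟨b.av i t, b.A_le_grp i (b.av_mem i t)⟩ from Subtype.ext ht]; exact hup t c⟩
      · exact ⟨lo t, fun c => by rw [show g = ⟨b.rv i t, b.rv_mem i t⟩ from Subtype.ext ht]; exact hlo t c⟩)
    (fun s => ⟨_, hup s⟩) (fun s => ⟨_, hlo s⟩)
  refine ⟨n, hn1, Or.inl ⟨F, inferInstance, inferInstance, e, f.toAddMonoidHom.comp π, hn,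
    f.surjective.comp (fun c => ⟨Φ c, hπΦ c⟩), fun u => ?_, fun g u => ?_⟩⟩
  · rw [← hker]; exact map_eq_zero_iff f f.injective
  · show f (π (ρ (g : P) u)) = _
    rw [← hτ]; exact hef g (π u)

/-- **The splitting.** -/
theorem exists_split : Nonempty (Split ρ T ι) := by
  classical
  obtain ⟨n, -, hn⟩ := b.exists_pow
  have hkerA : ∀ i, ∀ x ∈ b.A i, x ≠ 1 → ∀ u, ρ x u = u → u ∈ fix ρ (b.A i) := by
    intro i x hx hx1 u hu
    obtain ⟨t, rfl⟩ := b.av_surj i x hx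
    rw [b.fix_A]
    have ht : t ≠ 0 := fun e => hx1 (by rw [e, b.av_zero])
    rw [b.av_act, add_eq_left] at hu
    have h := congrArg (b.cx i) hu
    rw [b.cx_ex, map_zero, mul_eq_zero] at h
    exact h.resolve_left ht
  have himgA : ∀ i, img ρ (b.A i) = (b.ex i).range := fun i => by
    refine le_antisymm ((RootCommute.img_le ρ).2 fun a ha u => ?_) ?_
    · obtain ⟨t, rfl⟩ := b.av_surj i a ha
      rw [b.av_act, add_sub_cancel_left]; exact ⟨_, rfl⟩
    · rintro _ ⟨x, rfl⟩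
      have := sub_mem_img ρ (b.av_mem i x) (b.ey i 1)
      rwa [b.a_ey, add_sub_cancel_left, mul_one] at this
  have hfix0 : fix ρ (⨆ i, b.grp i) = ⊥ := (AddSubgroup.eq_bot_iff_forall _).2 fun u hu => by
    rw [b.sum_coords u]
    refine Finset.sum_eq_zero fun i _ => ?_
    obtain ⟨h1, h2⟩ := (b.mem_fix_grp i).1 (fix_antitone ρ (le_iSup b.grp i) hu)
    rw [h1, h2, map_zero, map_zero, add_zero]
  refine ⟨{
    E := b.grp
    mem := Set.range b.A
    nonempty := b.nonempty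
    mem_le := ?_, mem_ne := ?_, mem_conj := ?_, mem_perm := ?_, idx := ?_, ker := ?_, quad := ?_, img_indep := ?_
    span := ?_, bound := ?_, gens := ?_, comm := fun i j h g hg k hk => b.grp_comm h hg hk, other := ?_
    fix_bot := hfix0, span_top := ?_, sup := b.sup, trans := ?_, natural := b.natural_grp
    comp_mem := ?_, join_normal := ?_ }⟩
  · rintro _ ⟨i, rfl⟩; exact b.A_le i
  · rintro _ ⟨i, rfl⟩ e
    have := b.card_A i
    rw [e, Subgroup.card_bot] at this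
    exact (Fintype.one_lt_card (α := F)).ne this
  · rintro _ ⟨i, rfl⟩ _ ⟨j, rfl⟩
    obtain ⟨t, -, h, -⟩ := b.trans i j
    exact ⟨t, h⟩
  · rintro t ht _ ⟨i, rfl⟩
    obtain ⟨j, hj, -⟩ := b.perm t ht i
    exact ⟨j, hj.symm⟩
  · rintro _ ⟨i, rfl⟩; rw [b.card_A]; exact b.idx_A i
  · rintro _ ⟨i, rfl⟩; exact hkerA i
  · rintro _ ⟨i, rfl⟩ _ ⟨j, rfl⟩
    rw [himgA]
    rintro _ ⟨x, rfl⟩
    exact (b.fix_A j).2 (b.cy_ex i j x)
  · rintro _ ⟨i, rfl⟩
    refine (AddSubgroup.eq_bot_iff_forall _).2 fun u hu => ?_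
    obtain ⟨h1, h2⟩ := AddSubgroup.mem_inf.1 hu
    rw [himgA] at h1
    obtain ⟨x, rfl⟩ := h1
    have hle : (⨆ B' ∈ {B' | B' ∈ Set.range b.A ∧ B' ≠ b.A i}, img ρ B') ≤ (b.cx i).ker := by
      refine iSup₂_le ?_
      rintro _ ⟨⟨j, rfl⟩, hne⟩
      rw [himgA]
      rintro _ ⟨y, rfl⟩
      exact b.cx_ex_ne (fun e => hne (by rw [e])) y
    have h3 : b.cx i (b.ex i x) = 0 := hle h2
    rw [b.cx_ex] at h3
    rw [h3, map_zero]
  · rintro _ ⟨i, rfl⟩ u hu
    rw [b.sum_coords u]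
    refine sum_mem fun j _ => add_mem (AddSubgroup.mem_sup_left ?_) ?_
    · refine AddSubgroup.mem_iSup_of_mem (b.A j) (AddSubgroup.mem_iSup_of_mem ⟨j, rfl⟩ ?_)
      rw [himgA]; exact ⟨_, rfl⟩
    · by_cases hji : j = i
      · subst hji; rw [(b.fix_A j).1 hu, map_zero]; exact zero_mem _
      · refine AddSubgroup.mem_sup_right (AddSubgroup.subset_closure
          ⟨b.rv j (b.cy j u), le_iSup b.grp j (b.rv_mem j _), fun x hx => b.grp_comm hji (b.rv_mem j _)
            (b.A_le_grp i hx), b.ex j 1, (b.fix_A i).2 (b.cy_ex j i 1), ?_⟩)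
        rw [b.r_ex, add_sub_cancel_left, mul_one]
  · intro A hA hc hpw
    obtain ⟨h1, h2⟩ := b.bound hn hA hc hpw
    exact ⟨h1, fun h => (h2 h).trans (sSup_le_sSup fun B ⟨hB, i, hi⟩ => ⟨hB, i, hi⟩)⟩
  · intro i
    set w := b.av i 1 * b.rv i (-1) * b.av i 1
    have hne : b.A i ≠ cm w (b.A i) := fun e => by
      have h1 : b.rv i 1 ∈ b.A i := e.symm ▸ (b.cm_A_eq i).ge (Subgroup.subset_closure ⟨1, rfl⟩)
      have h2 := (b.fix_A i).2 (b.cy_ex i i 1) _ h1
      rw [b.r_ex, add_eq_left, one_mul] at h2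
      have h3 := congrArg (b.cy i) h2
      rw [b.cy_ey, map_zero] at h3
      exact one_ne_zero h3
    refine ⟨{b.A i, cm w (b.A i)}, fun B hB => ?_, ?_, ?_⟩
    · rcases Finset.mem_insert.1 hB with rfl | hB
      · exact ⟨1, b.A i, ⟨i, rfl⟩, cm_one _⟩
      · rw [Finset.mem_singleton] at hB
        exact ⟨w, b.A i, ⟨i, rfl⟩, hB.symm⟩
    · rw [Finset.sup_insert, Finset.sup_singleton, id_eq, id_eq, b.cm_A_eq, ← b.gen]
    · rw [Finset.prod_pair hne, b.card_A, show Nat.card ↥(cm w (b.A i)) = Fintype.card F from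
        (Subgroup.card_map_of_injective (MulAut.conj w).injective).trans (b.card_A i)]
      let π : U →+ F × F := (b.cx i).prod (b.cy i)
      have hk : π.ker = fix ρ (b.grp i) := by
        ext u
        rw [b.mem_fix_grp, AddMonoidHom.mem_ker]
        exact Prod.mk_eq_zero
      have hs : π.range = ⊤ := eq_top_iff.2 fun c _ => ⟨b.ex i c.1 + b.ey i c.2, Prod.ext
        (show b.cx i _ = _ by rw [map_add, b.cx_ex, b.cx_ey, add_zero])
        (show b.cy i _ = _ by rw [map_add, b.cy_ex, b.cy_ey, zero_add])⟩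
      have h := π.ker.card_mul_index
      rw [AddSubgroup.index_ker, hk, hs, AddSubgroup.card_top, Nat.card_prod, Nat.card_eq_fintype_card (α := F)] at h
      exact h.le
  · intro i j hij
    rw [b.img_grp]
    exact fun u hu => (b.mem_fix_grp j).2 (b.mem_space.1 hu j hij.symm)
  · refine eq_top_iff.2 fun u _ => ?_
    rw [b.sum_coords u]
    refine sum_mem fun i _ => AddSubgroup.mem_iSup_of_mem i ?_
    rw [b.img_grp]
    exact AddSubgroup.mem_sup.2 ⟨_, ⟨_, rfl⟩, _, ⟨_, rfl⟩, rfl⟩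
  · intro i j
    obtain ⟨t, ht, -, h⟩ := b.trans i j
    exact ⟨t, ht, h⟩
  · rintro _ ⟨i, rfl⟩
    exact (b.A_le_grp i).trans (le_iSup b.grp i)
  · refine Subgroup.normalizer_eq_top_iff.1 (eq_top_iff.2 (b.sup.ge.trans
      (sup_le Subgroup.le_normalizer fun t ht => ZJFailure.mem_normalizer_of_forall fun x hx => ?_)))
    have h1 : (⨆ i, b.grp i) ≤ (⨆ i, b.grp i).comap (MulAut.conj t).toMonoidHom := iSup_le fun i y hy => by
      obtain ⟨j, -, hj⟩ := b.perm t ht i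
      exact le_iSup b.grp j (hj.le ⟨y, hy, rfl⟩)
    exact h1 hx

end Blocks

end CfsgLib.RootBlocks
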