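import Cfsg.Agent.Lib.RootCommute.ToBlocks
import Cfsg.Agent.Lib.RootTwo.HasSplit
import Cfsg.Agent.Lib.RootBlocks.SplitOfBlocks
import Cfsg.Agent.Lib.RootBlocks.LiftDefs

/-!
Every irreducible situation with an offender splits.
-/

set_option autoImplicit false
set_option linter.unusedSectionVars false

namespace CfsgLib.RootBlocks

open CfsgLib CfsgLib.RootCommute

universe u v

/-- **Splitting for every prime.** -/
theorem hasSplit (p : ℕ) [Fact p.Prime] : HasSplit.{u, v} p := by
  by_cases hp : p = 2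
  · subst hp
    exact RootTwo.hasSplit
  intro P _ _ U _ _ ρ T M h hoff
  obtain ⟨A, -, hc, hpw, hne, hbig⟩ := hoff
  have hs : RootCommute.Setting ρ T M :=
    ⟨h.base.inj, hp, h.base.smul_zero, h.no_fixed, h.full, h.base.le_M, h.base.M_ne, h.base.over_le, h.base.no_core⟩
  obtain ⟨X, n, mem, opp, zed, hr⟩ := exists_roots hs ⟨A, hne, hc, hpw, hbig⟩
  obtain ⟨ι, hι, F, iF, iF', ⟨b⟩⟩ := hr.exists_blocks
  exact ⟨ι, hι, b.exists_split⟩

end CfsgLib.RootBlocks
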