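import Cfsg.Agent.Lib.RootBlocks.Lift
import Cfsg.Prelude.Def_BaumannBlocks
import Cfsg.Prelude.Def_PLocal

/-!
The splitting read inside the group.
-/

set_option autoImplicit false
set_option linter.unusedSectionVars false
set_option linter.style.haveILetI false

namespace CfsgLib.RootBlocks

open Cfsg CfsgLib CfsgLib.RootCommute
open CfsgLib.SL2Pair (fix)
open CfsgLib.StrongFusion (cm cm_cm cm_one cm_inv_cm cm_mono)
open scoped commutatorElement Pointwise

universe u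

variable {G : Type u} [Group G] [Finite G]

/-- An abelian subgroup is a commutative group. -/
@[reducible] def commGroupOf (V : Subgroup G) [IsMulCommutative ↥V] : CommGroup ↥V :=
  { (inferInstance : Group ↥V) with mul_comm := fun a b => IsMulCommutative.is_comm.comm a b }

attribute [local instance] commGroupOf

section Embed

variable {V P : Subgroup G} [IsMulCommutative ↥V] (hPV : P ≤ Subgroup.normalizer (V : Set G))

/-- The vectors of a subgroup written additively. -/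
def toG (X : AddSubgroup (Additive ↥V)) : Subgroup G := (AddSubgroup.toSubgroup' X).map V.subtype

theorem mem_toG {X : AddSubgroup (Additive ↥V)} {g : G} :
    g ∈ toG X ↔ ∃ x ∈ X, ((Additive.toMul x : ↥V) : G) = g :=
  ⟨fun ⟨x, hx, h⟩ => ⟨Additive.ofMul x, hx, h⟩, fun ⟨x, hx, h⟩ => ⟨Additive.toMul x, hx, h⟩⟩

theorem toG_top : toG (⊤ : AddSubgroup (Additive ↥V)) = V := by
  ext g
  rw [mem_toG]
  exact ⟨fun ⟨x, _, h⟩ => h ▸ (Additive.toMul x).2, fun h => ⟨Additive.ofMul ⟨g, h⟩, trivial, rfl⟩⟩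

theorem toG_sup (X Y : AddSubgroup (Additive ↥V)) : toG (X ⊔ Y) = toG X ⊔ toG Y := by
  rw [toG, OrderIso.map_sup, Subgroup.map_sup]; rfl

theorem toG_iSup {κ : Sort*} (X : κ → AddSubgroup (Additive ↥V)) : toG (⨆ i, X i) = ⨆ i, toG (X i) := by
  rw [toG, OrderIso.map_iSup, Subgroup.map_iSup]; rfl

theorem toG_mem {X : AddSubgroup (Additive ↥V)} {x : Additive ↥V} :
    ((Additive.toMul x : ↥V) : G) ∈ toG X ↔ x ∈ X :=
  ⟨fun h => by
    obtain ⟨y, hy, e⟩ := mem_toG.1 h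
    rwa [← Additive.toMul.injective (Subtype.ext e : Additive.toMul y = Additive.toMul x)],
    fun h => mem_toG.2 ⟨x, h, rfl⟩⟩

include hPV

/-- The action by conjugation. -/
def conjAct : ↥P →* AddMonoid.End (Additive ↥V) where
  toFun g :=
    { toFun := fun x => Additive.ofMul ⟨(g : G) * (Additive.toMul x : ↥V) * (g : G)⁻¹,
        (Subgroup.mem_normalizer_iff.1 (hPV g.2) _).1 (Additive.toMul x).2⟩
      map_zero' := congrArg Additive.ofMul (Subtype.ext (by simp))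
      map_add' := fun x y => congrArg Additive.ofMul (Subtype.ext (by
        show (g : G) * ((Additive.toMul x : ↥V) * (Additive.toMul y : ↥V)) * (g : G)⁻¹ =
          ((g : G) * (Additive.toMul x : ↥V) * (g : G)⁻¹) * ((g : G) * (Additive.toMul y : ↥V) * (g : G)⁻¹)
        group)) }
  map_one' := AddMonoidHom.ext fun x => congrArg Additive.ofMul (Subtype.ext (by simp; rfl))
  map_mul' g h := AddMonoidHom.ext fun x => congrArg Additive.ofMul (Subtype.ext (by
    show ((g : G) * h) * _ * ((g : G) * h)⁻¹ = (g : G) * ((h : G) * _ * (h : G)⁻¹) * (g : G)⁻¹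
    group))

theorem conjAct_val (g : ↥P) (x : Additive ↥V) :
    ((Additive.toMul (conjAct hPV g x) : ↥V) : G) = (g : G) * (Additive.toMul x : ↥V) * (g : G)⁻¹ := rfl

theorem act_fixed_iff (g : ↥P) (x : Additive ↥V) :
    conjAct hPV g x = x ↔ ((g : G) * (Additive.toMul x : ↥V) = (Additive.toMul x : ↥V) * (g : G)) := by
  rw [← Additive.toMul.injective.eq_iff, ← Subtype.coe_inj, conjAct_val, mul_inv_eq_iff_eq_mul]

theorem toG_fix (E : Subgroup ↥P) :
    toG (fix (conjAct hPV) E) = V ⊓ Subgroup.centralizer ((E.map P.subtype : Subgroup G) : Set G) := by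
  ext g
  rw [mem_toG, Subgroup.mem_inf, Subgroup.mem_centralizer_iff]
  constructor
  · rintro ⟨x, hx, rfl⟩
    refine ⟨(Additive.toMul x).2, ?_⟩
    rintro _ ⟨e, he, rfl⟩
    exact (act_fixed_iff hPV e x).1 (hx e he)
  · rintro ⟨hg, hc⟩
    exact ⟨Additive.ofMul ⟨g, hg⟩, fun e he => (act_fixed_iff hPV e _).2 (hc _ ⟨e, he, rfl⟩), rfl⟩

theorem toG_img (E : Subgroup ↥P) :
    toG (img (conjAct hPV) E) = ⁅V, E.map P.subtype⁆ := by
  refine le_antisymm ?_ (Subgroup.commutator_le.2 ?_)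
  · have h : img (conjAct hPV) E ≤
        AddSubgroup.comap (AddMonoidHom.id _) (Subgroup.toAddSubgroup ((⁅V, E.map P.subtype⁆).subgroupOf V)) := by
      refine (RootCommute.img_le _).2 fun e he x => ?_
      show (((Additive.toMul (conjAct hPV e x - x)) : ↥V) : G) ∈ ⁅V, E.map P.subtype⁆
      rw [toMul_sub, Subgroup.coe_div, conjAct_val, div_eq_mul_inv, ← commutatorElement_def, ← commutatorElement_inv]
      exact Subgroup.inv_mem _ (Subgroup.commutator_mem_commutator (Additive.toMul x).2 ⟨e, he, rfl⟩)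
    intro g hg
    obtain ⟨x, hx, rfl⟩ := mem_toG.1 hg
    exact h hx
  · rintro v hv _ ⟨e, he, rfl⟩
    have h := (img (conjAct hPV) E).neg_mem (sub_mem_img (conjAct hPV) he (Additive.ofMul ⟨v, hv⟩))
    refine mem_toG.2 ⟨_, h, ?_⟩
    rw [neg_sub, toMul_sub, Subgroup.coe_div, conjAct_val, toMul_ofMul, div_eq_mul_inv, commutatorElement_def]
    show v * ((e : G) * v * (e : G)⁻¹)⁻¹ = v * (e : G) * v⁻¹ * (e : G)⁻¹
    group

theorem card_toG (X : AddSubgroup (Additive ↥V)) : Nat.card (toG X) = Nat.card X :=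
  (Subgroup.card_map_of_injective V.subtype_injective).trans (Nat.card_congr
    { toFun := fun x => ⟨Additive.ofMul (x : ↥V), x.2⟩
      invFun := fun x => ⟨Additive.toMul (x : Additive ↥V), x.2⟩
      left_inv := fun x => rfl
      right_inv := fun x => rfl })

end Embed

variable {p : ℕ} [hp : Fact p.Prime]

/-- The hypotheses give the situation. -/
theorem exists_over {V P : Subgroup G} [IsMulCommutative ↥V] (hV : IsElementaryAbelian p V)
    (hPV : P ≤ Subgroup.normalizer (V : Set G)) (hfaith : P ⊓ Subgroup.centralizer (V : Set G) = ⊥)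
    (hmin : IsPMinimal p ↥P) (hOp : pCore p ↥P = ⊥)
    (hoff : ∃ A : Subgroup G, A ≤ P ∧ ¬ A ≤ Subgroup.centralizer (V : Set G) ∧ IsBestOffenderOn p V A)
    (T : Sylow p ↥P) :
    ∃ M : Subgroup ↥P, Over (conjAct hPV) T M ∧ HasOffender (conjAct hPV) T := by
  classical
  obtain ⟨-, M, ⟨hMco, hTM⟩, huniq⟩ := hmin T
  have hinj : Function.Injective (conjAct hPV) := (injective_iff_map_eq_one _).2 fun g hg => by
    refine Subtype.ext ?_
    have h1 : (g : G) ∈ P ⊓ Subgroup.centralizer (V : Set G) := ⟨g.2, Subgroup.mem_centralizer_iff.2 fun v hv =>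
      ((act_fixed_iff hPV g (Additive.ofMul ⟨v, hv⟩)).1 (by rw [hg]; rfl)).symm⟩
    rw [hfaith, Subgroup.mem_bot] at h1
    exact h1
  refine ⟨M, ⟨hinj, fun x => ?_, hTM, hMco.1, fun H hH hne => ?_, fun N hN hNp => ?_⟩, ?_⟩
  · refine Additive.toMul.injective (Subtype.ext ?_)
    show (((Additive.toMul x : ↥V) ^ p : ↥V) : G) = 1
    rw [SubmonoidClass.coe_pow]
    exact hV.2 _ (Additive.toMul x).2
  · rcases IsCoatomic.eq_top_or_exists_le_coatom H with h | ⟨K, hK, hHK⟩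
    · exact absurd h hne
    · exact huniq K ⟨hK, hH.trans hHK⟩ ▸ hHK
  · haveI := hN
    exact le_bot_iff.1 (hOp ▸ le_pCore hNp)
  obtain ⟨A, hAP, hAC, hbest, hAab, hApow⟩ := hoff
  have hone : ∀ {g : G}, g ∈ P → g ∈ Subgroup.centralizer (V : Set G) → g = 1 := fun {g} h1 h2 => by
    have : g ∈ P ⊓ Subgroup.centralizer (V : Set G) := ⟨h1, h2⟩
    rwa [hfaith, Subgroup.mem_bot] at this
  set A₀ := A.subgroupOf P with hA₀
  have hA₀c : ∀ a ∈ A₀, ∀ c ∈ A₀, a * c = c * a := fun a ha c hc => Subtype.ext (by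
    refine commutatorElement_eq_one_iff_mul_comm.1 (hone ?_ (hAab (Subgroup.commutator_mem_commutator ha hc)))
    exact P.mul_mem (P.mul_mem (P.mul_mem a.2 c.2) (P.inv_mem a.2)) (P.inv_mem c.2))
  have hA₀p : ∀ a ∈ A₀, a ^ p = 1 := fun a ha => Subtype.ext (hone (pow_mem a.2 p) (hApow _ ha))
  have hA₀g : IsPGroup p A₀ := fun a => ⟨1, Subtype.ext (by rw [pow_one]; exact hA₀p _ a.2)⟩
  obtain ⟨T₁, hT₁⟩ := hA₀g.exists_le_sylow
  obtain ⟨y, rfl⟩ := MulAction.exists_smul_eq ↥P T T₁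
  have hmap : A₀.map P.subtype = A := Subgroup.map_subgroupOf_eq_of_le hAP
  refine ⟨cm y⁻¹ A₀, ?_, ?_, ?_, ?_, ?_⟩
  · rintro _ ⟨a, ha, rfl⟩
    have h2 : a ∈ MulAut.conj y • (T : Subgroup ↥P) := by
      rw [← Sylow.coe_subgroup_smul]; exact hT₁ ha
    obtain ⟨t, ht, rfl⟩ := h2
    show y⁻¹ * (y * t * y⁻¹) * y⁻¹⁻¹ ∈ (T : Subgroup ↥P)
    rw [show y⁻¹ * (y * t * y⁻¹) * y⁻¹⁻¹ = t by group]
    exact ht
  · rintro _ ⟨a, ha, rfl⟩ _ ⟨c, hc, rfl⟩
    rw [← map_mul, ← map_mul, hA₀c a ha c hc]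
  · rintro _ ⟨a, ha, rfl⟩
    rw [← map_pow, hA₀p a ha, map_one]
  · intro e
    have h : A₀ = ⊥ := (Subgroup.map_eq_bot_iff_of_injective A₀ (MulAut.conj y⁻¹).injective).1 e
    refine hAC ?_
    rw [← hmap, h, Subgroup.map_bot]
    exact bot_le
  · have h := hbest ⊥ bot_le
    rw [Subgroup.card_bot, one_mul, show Subgroup.centralizer ((⊥ : Subgroup G) : Set G) = ⊤ from
      eq_top_iff.2 fun g _ => Subgroup.mem_centralizer_iff.2 fun b hb => by
        rw [Subgroup.coe_bot, Set.mem_singleton_iff] at hb; rw [hb, one_mul, mul_one], inf_top_eq] at h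
    rw [mu, Subgroup.card_map_of_injective (MulAut.conj y⁻¹).injective, card_fix_cm, ← card_toG hPV,
      toG_fix, hmap, Nat.card_congr (Subgroup.subgroupOfEquivOfLe hAP).toEquiv]
    exact (Nat.card_congr Additive.toMul).trans_le h

/-- **The structure.** -/
theorem structure_of_split (hsp : HasSplit.{u, u} p) (V P : Subgroup G) (hV : IsElementaryAbelian p V)
    (hPV : P ≤ Subgroup.normalizer (V : Set G)) (hfaith : P ⊓ Subgroup.centralizer (V : Set G) = ⊥)
    (hmin : IsPMinimal p ↥P) (T : Sylow p ↥P) (hOp : pCore p ↥P = ⊥)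
    (hoff : ∃ A : Subgroup G, A ≤ P ∧ ¬ A ≤ Subgroup.centralizer (V : Set G) ∧ IsBestOffenderOn p V A) :
    ∃ (r : ℕ) (E : Fin r → Subgroup G), 1 ≤ r ∧ (∀ i, E i ≤ P) ∧ (∀ i j, i ≠ j → ⁅E i, E j⁆ = ⊥) ∧
      (∀ i, E i ⊓ (⨆ j ∈ {j | j ≠ i}, E j) = ⊥) ∧ (⨆ i, E i) ⊔ ((T : Subgroup ↥P).map P.subtype) = P ∧
      (∀ i j, ∃ t ∈ ((T : Subgroup ↥P).map P.subtype), (E i).map (MulAut.conj t).toMonoidHom = E j) ∧
      (V ⊓ Subgroup.centralizer (((⨆ i, E i) : Subgroup G) : Set G)) ⊔ (⨆ i, ⁅V, E i⁆) = V ∧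
      (∀ i j, i ≠ j → ⁅⁅V, E i⁆, E j⁆ = ⊥) ∧
      ∀ i, ∃ n : ℕ, 1 ≤ n ∧ ((∃ (F : Type) (_ : Field F) (_ : Fintype F), Fintype.card F = p ^ n ∧
          Nonempty (↥(E i) ≃* Matrix.SpecialLinearGroup (Fin 2) F) ∧
          ActsAsSL2OnSection F ⊤ (E i) ⁅V, E i⁆ (⁅V, E i⁆ ⊓ Subgroup.centralizer ((E i : Subgroup G) : Set G))) ∨
        (p = 2 ∧ Nonempty (↥(E i) ≃* Equiv.Perm (Fin (2 ^ n + 1))) ∧
          ActsAsOddPermModuleOnSection (2 ^ n + 1) ⊤ (E i) ⁅V, E i⁆
            (⁅V, E i⁆ ⊓ Subgroup.centralizer ((E i : Subgroup G) : Set G)))) := by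
  classical
  haveI := hV.1
  obtain ⟨M, hov, hof⟩ := exists_over hV hPV hfaith hmin hOp hoff T
  obtain ⟨⟨r, E, hr, hcomm, hind, hsup, htrans, hsum, hother, hsec⟩, -⟩ := lifted hsp hov hof
  refine ⟨r, fun i => (E i).map P.subtype, hr, fun i => Subgroup.map_subtype_le _, fun i j hij => ?_, fun i => ?_,
    ?_, fun i j => ?_, ?_, fun i j hij => ?_, fun i => ?_⟩
  · rw [Subgroup.commutator_eq_bot_iff_le_centralizer]
    rintro _ ⟨a, ha, rfl⟩
    rw [Subgroup.mem_centralizer_iff]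
    rintro _ ⟨c, hc, rfl⟩
    exact congrArg P.subtype (hcomm i j hij a ha c hc).symm
  · rw [← Subgroup.map_bot P.subtype, ← hind i, Subgroup.map_inf _ _ _ P.subtype_injective]
    simp only [Subgroup.map_iSup]
  · rw [← Subgroup.map_iSup, ← Subgroup.map_sup, hsup, ← MonoidHom.range_eq_map, Subgroup.range_subtype]
  · obtain ⟨t, ht, h⟩ := htrans i j
    refine ⟨_, ⟨t, ht, rfl⟩, ?_⟩
    show ((E i).map P.subtype).map _ = (E j).map P.subtype
    rw [← h, cm, Subgroup.map_map, Subgroup.map_map]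
    rfl
  · simp only [← Subgroup.map_iSup, ← toG_fix hPV, ← toG_img hPV]
    rw [← toG_iSup, ← toG_sup, hsum, toG_top]
  · rw [Subgroup.commutator_eq_bot_iff_le_centralizer, ← toG_img hPV]
    refine le_trans ?_ (inf_le_right : V ⊓ Subgroup.centralizer (((E j).map P.subtype : Subgroup G) : Set G) ≤ _)
    rw [← toG_fix hPV]
    exact Subgroup.map_mono (fun x hx => hother i j hij hx)
  obtain ⟨n, hn, h⟩ := hsec i
  set Ei := (E i).map P.subtype with hEi
  set Y := ⁅V, Ei⁆ with hY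
  let eE : ↥(E i) ≃* ↥Ei := (E i).equivMapOfInjective P.subtype P.subtype_injective
  have himg : toG (img (conjAct hPV) (E i)) = Y := toG_img hPV (E i)
  have hYV : Y ≤ V := by rw [← himg]; exact Subgroup.map_subtype_le _
  let mk : ↥Y → ↥(img (conjAct hPV) (E i)) := fun u =>
    ⟨Additive.ofMul ⟨u, hYV u.2⟩, (toG_mem (x := Additive.ofMul (⟨u, hYV u.2⟩ : ↥V))).1 (by rw [himg]; exact u.2)⟩
  have hmk : Function.Surjective mk := fun x =>
    ⟨⟨((Additive.toMul (x : Additive ↥V) : ↥V) : G), by rw [← himg]; exact toG_mem.2 x.2⟩, Subtype.ext rfl⟩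
  have hnorm : Ei ≤ Subgroup.normalizer (Y : Set G) := by
    rw [← himg]
    rintro _ ⟨e, he, rfl⟩
    refine Local.mem_normalizer_of_map_conj_eq (Subgroup.eq_of_le_of_card_ge (Local.map_conj_le fun y hy => ?_)
      (Subgroup.card_map_of_injective (MulAut.conj _).injective).ge)
    obtain ⟨x, hx, rfl⟩ := mem_toG.1 hy
    have h2 := (img (conjAct hPV) (E i)).add_mem (sub_mem_img (conjAct hPV) he x) hx
    rw [sub_add_cancel] at h2
    exact (conjAct_val hPV e x) ▸ toG_mem.2 h2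
  have hU0 : ∀ u : ↥Y, (u : G) ∈ Y ⊓ Subgroup.centralizer (Ei : Set G) ↔
      ((mk u : ↥(img (conjAct hPV) (E i))) : Additive ↥V) ∈ fix (conjAct hPV) (E i) := fun u => by
    have h1 : (u : G) ∈ toG (fix (conjAct hPV) (E i)) ↔ _ :=
      toG_mem (x := Additive.ofMul (⟨u, hYV u.2⟩ : ↥V))
    rw [toG_fix] at h1
    exact ⟨fun h => h1.1 ⟨hYV u.2, h.2⟩, fun h => ⟨u.2, (h1.2 h).2⟩⟩
  have hmkmul : ∀ a c, mk (a * c) = mk a + mk c := fun a c => Subtype.ext rfl
  have hconj : ∀ (e : ↥Ei) (u : ↥Y), ∃ w : ↥Y, (w : G) = (e : G) * (u : G) * (e : G)⁻¹ ∧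
      ((mk w : ↥(img (conjAct hPV) (E i))) : Additive ↥V) = conjAct hPV ((eE.symm e : ↥(E i)) : ↥P) (mk u) := by
    intro e u
    refine ⟨⟨(e : G) * (u : G) * (e : G)⁻¹, (Subgroup.mem_normalizer_iff.1 (hnorm e.2) u).1 u.2⟩, rfl, ?_⟩
    refine congrArg Additive.ofMul (Subtype.ext ?_)
    show (e : G) * (u : G) * (e : G)⁻¹ = _
    have he : (((eE.symm e : ↥(E i)) : ↥P) : G) = (e : G) := congrArg Subtype.val (eE.apply_symm_apply e)
    rw [← he]
    rfl
  refine ⟨n, hn, ?_⟩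
  rcases h with ⟨F, iF, iF', e, ψ, hcard, hs, hk, he⟩ | ⟨hp2, e, ψ, hsum', hs, hk, he⟩
  · refine Or.inl ⟨F, iF, iF', hcard, ⟨eE.symm.trans e⟩, hnorm, inf_le_left, (eE.symm.trans e).toMonoidHom,
      MonoidHom.mk' (fun u => Multiplicative.ofAdd (ψ (mk u))) (fun a c => by rw [hmkmul, map_add, ofAdd_add]),
      MonoidHom.range_eq_top.2 (eE.symm.trans e).surjective, fun v => ?_, fun u => ?_, fun g u => ?_⟩
    · obtain ⟨x, hx⟩ := hs (Multiplicative.toAdd v)
      obtain ⟨u, rfl⟩ := hmk x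
      exact ⟨u, congrArg Multiplicative.ofAdd hx⟩
    · rw [hU0, ← hk]; exact ofAdd_eq_one
    · obtain ⟨w, hw, hwe⟩ := hconj g u
      exact ⟨w, hw, he (eE.symm g) (mk u) (mk w) hwe⟩
  · refine Or.inr ⟨hp2, ⟨eE.symm.trans e⟩, hnorm, inf_le_left, (eE.symm.trans e).toMonoidHom,
      MonoidHom.mk' (fun u => Multiplicative.ofAdd (ψ (mk u))) (fun a c => by rw [hmkmul, map_add, ofAdd_add]),
      MonoidHom.range_eq_top.2 (eE.symm.trans e).surjective, fun u => hsum' _, fun v hv => ?_, fun u => ?_,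
      fun g u => ?_⟩
    · obtain ⟨x, hx⟩ := hs v hv
      obtain ⟨u, rfl⟩ := hmk x
      exact ⟨u, hx⟩
    · rw [hU0, ← hk]; exact ofAdd_eq_one
    · obtain ⟨w, hw, hwe⟩ := hconj g u
      exact ⟨w, hw, fun k => he (eE.symm g) (mk u) (mk w) k hwe⟩

/-- **The fixed points of a Sylow subgroup are moved.** -/
theorem moved_of_split (hsp : HasSplit.{u, u} p) (V P : Subgroup G) (hV : IsElementaryAbelian p V)
    (hPV : P ≤ Subgroup.normalizer (V : Set G)) (hfaith : P ⊓ Subgroup.centralizer (V : Set G) = ⊥)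
    (hmin : IsPMinimal p ↥P) (hOp : pCore p ↥P = ⊥)
    (hoff : ∃ A : Subgroup G, A ≤ P ∧ ¬ A ≤ Subgroup.centralizer (V : Set G) ∧ IsBestOffenderOn p V A)
    (T : Sylow p ↥P) :
    ⁅(V ⊓ Subgroup.centralizer ((((T : Subgroup ↥P).map P.subtype) : Subgroup G) : Set G)), P⁆ ≠ ⊥ := by
  classical
  haveI := hV.1
  obtain ⟨M, hov, hof⟩ := exists_over hV hPV hfaith hmin hOp hoff T
  obtain ⟨z, hz, g, hg⟩ := (lifted hsp hov hof).moved
  intro h
  refine hg ((act_fixed_iff hPV g z).2 ?_)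
  rw [← toG_fix hPV, Subgroup.commutator_eq_bot_iff_le_centralizer] at h
  exact Subgroup.mem_centralizer_iff.1 (h (toG_mem.2 hz)) (g : G) g.2

end CfsgLib.RootBlocks
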