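import Cfsg.Agent.Lib.RootBlocks.Generated
import Cfsg.Agent.Lib.RootBlocks.Translate
import Cfsg.Agent.Lib.Baumann.BlockBasic
import Cfsg.Agent.Lib.PLocal.Offender.Application
import Cfsg.Agent.Lib.ZJFailure.Pair
import Cfsg.Agent.Lib.ZJFailure.Section

/-!
A group with one maximal subgroup over a Sylow subgroup, seen on `Ω₁(Z(O_p(G)))`.
-/

set_option autoImplicit false
set_option linter.unusedSectionVars false
set_option linter.style.haveILetI false

namespace CfsgLib.RootBlocks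

open Cfsg CfsgLib CfsgLib.RootCommute
open CfsgLib.SL2Pair (fix)
open CfsgLib.StrongFusion (cm cm_cm cm_one cm_inv_cm cm_mono)
open scoped commutatorElement Pointwise

universe u

variable {G : Type u} [Group G] [Finite G] {p : ℕ} [hp : Fact p.Prime]

attribute [local instance] commGroupOf

/-- The subgroup `Ω₁(Z(O_p(G)))` is elementary abelian and normal, and its centralizer is normal. -/
theorem coreOmega_facts (p : ℕ) [Fact p.Prime] :
    IsElementaryAbelian p (omegaOneCenter p (pCore p G)) ∧ (omegaOneCenter p (pCore p G)).Normal ∧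
      (Subgroup.centralizer (omegaOneCenter p (pCore p G) : Set G)).Normal := by
  set V := omegaOneCenter p (pCore p G)
  have hVn : V.Normal := Subgroup.normalizer_eq_top_iff.1 (eq_top_iff.2
    ((Subgroup.normalizer_eq_top_iff.2 (inferInstance : (pCore p G).Normal)).ge.trans
      (BBlock.normalizer_le_normalizer_omegaOneCenter p _)))
  refine ⟨⟨⟨⟨fun a b => Subtype.ext (BBlock.omegaOneCenter_comm p _ b.2 (BBlock.omegaOneCenter_le p _ a.2))⟩⟩,
    fun a ha => BBlock.omegaOneCenter_pow p _ ha⟩, hVn, inferInstance⟩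

/-- Maximal elementary abelian subgroups are conjugate into the Sylow subgroup. -/
theorem exists_conj_max (T : Sylow p G) {A : Subgroup G} (hA : A ∈ maxElementaryAbelianSubgroups p G) :
    ∃ g : G, cm g A ≤ (T : Subgroup G) ∧ cm g A ∈ maxElementaryAbelianSubgroups p G := by
  obtain ⟨hel, hmax⟩ := hA
  have hp' : IsPGroup p A := fun a => ⟨1, Subtype.ext (by rw [pow_one]; exact hel.2 a a.2)⟩
  obtain ⟨a, ha⟩ := ZJFailure.exists_le_cm T hp'
  refine ⟨a⁻¹, (cm_mono ha).trans (cm_inv_cm a _).le, ⟨⟨⟨fun x y => ?_⟩⟩, ?_⟩, fun B hB => ?_⟩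
  · obtain ⟨x₀, hx₀, ex⟩ := x.2
    obtain ⟨y₀, hy₀, ey⟩ := y.2
    refine Subtype.ext ?_
    show (x : G) * y = y * x
    rw [← ex, ← ey, ← map_mul, ← map_mul]
    exact congrArg _ (congrArg Subtype.val (hel.1.is_comm.comm ⟨x₀, hx₀⟩ ⟨y₀, hy₀⟩))
  · rintro _ ⟨x, hx, rfl⟩
    rw [← map_pow, hel.2 x hx, map_one]
  · rw [Subgroup.card_map_of_injective (MulAut.conj a⁻¹).injective]
    exact hmax B hB

/-- The Thompson subgroups of a group and of its Sylow subgroup. -/
theorem thompsonSubgroupOf_eq (T : Sylow p G) (h : thompsonSubgroup p G ≤ (T : Subgroup G)) :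
    thompsonSubgroupOf p (T : Subgroup G) = thompsonSubgroup p G := by
  set T' := (T : Subgroup G)
  have hin : ∀ A : Subgroup G, A ≤ T' → IsElementaryAbelian p A → IsElementaryAbelian p (A.subgroupOf T') :=
    fun A _ hA => ⟨⟨⟨fun x y => Subtype.ext (Subtype.ext (by
      show ((x : ↥T') : G) * ((y : ↥T') : G) = ((y : ↥T') : G) * ((x : ↥T') : G)
      exact congrArg Subtype.val (hA.1.is_comm.comm ⟨_, x.2⟩ ⟨_, y.2⟩)))⟩⟩, fun x hx => Subtype.ext (hA.2 _ hx)⟩
  have hout : ∀ B : Subgroup ↥T', IsElementaryAbelian p B → IsElementaryAbelian p (B.map T'.subtype) := fun B hB => by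
    refine ⟨⟨⟨fun x y => ?_⟩⟩, ?_⟩
    · obtain ⟨x₀, hx₀, ex⟩ := x.2
      obtain ⟨y₀, hy₀, ey⟩ := y.2
      refine Subtype.ext ?_
      show (x : G) * y = y * x
      rw [← ex, ← ey, ← map_mul, ← map_mul]
      exact congrArg _ (congrArg Subtype.val (hB.1.is_comm.comm ⟨x₀, hx₀⟩ ⟨y₀, hy₀⟩))
    · rintro _ ⟨x, hx, rfl⟩
      rw [← map_pow, hB.2 x hx, map_one]
  rw [thompsonSubgroupOf, thompsonSubgroup, thompsonSubgroup]
  refine le_antisymm ?_ ?_
  · rw [Subgroup.map_le_iff_le_comap]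
    refine sSup_le fun B hB => ?_
    rw [← Subgroup.map_le_iff_le_comap]
    refine le_sSup ⟨hout B hB.1, fun A hA => ?_⟩
    have hp' : IsPGroup p A := fun a => ⟨1, Subtype.ext (by rw [pow_one]; exact hA.2 a a.2)⟩
    obtain ⟨a, ha⟩ := ZJFailure.exists_le_cm T hp'
    have h1 : cm a⁻¹ A ≤ T' := (cm_mono ha).trans (cm_inv_cm a _).le
    have h2 : IsElementaryAbelian p (cm a⁻¹ A) := by
      refine ⟨⟨⟨fun x y => ?_⟩⟩, ?_⟩
      · obtain ⟨x₀, hx₀, ex⟩ := x.2
        obtain ⟨y₀, hy₀, ey⟩ := y.2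
        refine Subtype.ext ?_
        show (x : G) * y = y * x
        rw [← ex, ← ey, ← map_mul, ← map_mul]
        exact congrArg _ (congrArg Subtype.val (hA.1.is_comm.comm ⟨x₀, hx₀⟩ ⟨y₀, hy₀⟩))
      · rintro _ ⟨x, hx, rfl⟩
        rw [← map_pow, hA.2 x hx, map_one]
    have h3 := hB.2 _ (hin _ h1 h2)
    rw [Nat.card_congr (Subgroup.subgroupOfEquivOfLe h1).toEquiv,
      Subgroup.card_map_of_injective (MulAut.conj a⁻¹).injective] at h3
    exact h3.trans (Subgroup.card_map_of_injective T'.subtype_injective).ge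
  · refine sSup_le fun A hA => ?_
    have hAT : A ≤ T' := (le_sSup hA).trans h
    rw [← Subgroup.map_subgroupOf_eq_of_le hAT]
    refine Subgroup.map_mono (le_sSup ⟨hin A hAT hA.1, fun B hB => ?_⟩)
    rw [Nat.card_congr (Subgroup.subgroupOfEquivOfLe hAT).toEquiv, ← Subgroup.card_map_of_injective T'.subtype_injective]
    exact hA.2 _ (hout B hB)

/-- The Frattini argument for a normal subgroup and a Sylow subgroup of the group. -/
theorem frattini_inf (T : Sylow p G) {K : Subgroup G} [K.Normal] :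
    Subgroup.normalizer (((T : Subgroup G) ⊓ K : Subgroup G) : Set G) ⊔ K = ⊤ := by
  obtain ⟨P₁⟩ : Nonempty (Sylow p ↥K) := inferInstance
  obtain ⟨a, ha⟩ := ZJFailure.exists_le_cm T (P₁.2.map K.subtype)
  set Q₁ := ((T : Subgroup G) ⊓ K).subgroupOf K
  have hQ₁ : Q₁.map K.subtype = (T : Subgroup G) ⊓ K := Subgroup.map_subgroupOf_eq_of_le inf_le_right
  have hQ₁p : IsPGroup p Q₁ :=
    (T.2.to_le inf_le_left).of_equiv (Subgroup.subgroupOfEquivOfLe (inf_le_right : (T : Subgroup G) ⊓ K ≤ K)).symm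
  obtain ⟨P₂, hP₂⟩ := hQ₁p.exists_le_sylow
  have hle : (P₁ : Subgroup ↥K).map K.subtype ≤ cm a ((T : Subgroup G) ⊓ K) := fun x hx => by
    have h1 := RootCommute.mem_cm.1 (ha hx)
    refine RootCommute.mem_cm.2 ⟨h1, ?_⟩
    have h2 := (inferInstance : K.Normal).conj_mem x (Subgroup.map_subtype_le _ hx) a⁻¹
    rwa [inv_inv] at h2
  have hcard : Nat.card P₂ ≤ Nat.card Q₁ := by
    calc Nat.card P₂ = Nat.card P₁ := P₂.card_eq_multiplicity.trans P₁.card_eq_multiplicity.symm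
      _ = Nat.card ↥((P₁ : Subgroup ↥K).map K.subtype) := (Subgroup.card_map_of_injective K.subtype_injective).symm
      _ ≤ Nat.card ↥(cm a ((T : Subgroup G) ⊓ K)) := Subgroup.card_le_of_le hle
      _ = Nat.card ↥((T : Subgroup G) ⊓ K) := Subgroup.card_map_of_injective (MulAut.conj a).injective
      _ = Nat.card Q₁ := (Nat.card_congr (Subgroup.subgroupOfEquivOfLe inf_le_right).toEquiv).symm
  have heq : Q₁ = (P₂ : Subgroup ↥K) := Subgroup.eq_of_le_of_card_ge hP₂ hcard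
  have h := Sylow.normalizer_sup_eq_top P₂
  rwa [← heq, hQ₁] at h

/-- The hypotheses on `G ⧸ C_G(V)`. -/
theorem localStarStar (hsp : HasSplit.{u, u} p) (hmin : IsPMinimal p G)
    (hG : Subgroup.centralizer (pCore p G : Set G) ≤ pCore p G) (T : Sylow p G)
    (hne : cStarStarOf p (T : Subgroup G) ≠ ⊤) :
    ∃ (r : ℕ) (E : Fin r → Subgroup G),
      (∀ i, Subgroup.centralizer (omegaOneCenter p (pCore p G) : Set G) ≤ E i) ∧
      thompsonSubgroup p G ⊔ (T : Subgroup G) ⊔ Subgroup.centralizer (omegaOneCenter p (pCore p G) : Set G) = ⊤ ∧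
      (⨆ i, E i) = thompsonSubgroup p G ⊔ Subgroup.centralizer (omegaOneCenter p (pCore p G) : Set G) ∧
      (∀ i j, i ≠ j → ⁅E i, E j⁆ ≤ Subgroup.centralizer (omegaOneCenter p (pCore p G) : Set G)) ∧
      (∀ i, E i ⊓ (⨆ j ∈ {j | j ≠ i}, E j) ≤ Subgroup.centralizer (omegaOneCenter p (pCore p G) : Set G)) ∧
      (∀ i j, ∃ t ∈ (T : Subgroup G), (E i).map (MulAut.conj t).toMonoidHom = E j) ∧
      (omegaOneCenter p (pCore p G) ⊓ Subgroup.centralizer ((⨆ i, E i : Subgroup G) : Set G)) ⊔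
          (⨆ i, ⁅omegaOneCenter p (pCore p G), E i⁆) = omegaOneCenter p (pCore p G) ∧
      (∀ i j, i ≠ j → ⁅⁅omegaOneCenter p (pCore p G), E i⁆, E j⁆ = ⊥) ∧
      ∀ i, ∃ n : ℕ, 1 ≤ n ∧
        ((∃ (F : Type) (_ : Field F) (_ : Fintype F), Fintype.card F = p ^ n ∧
            (∃ _ : ((Subgroup.centralizer (omegaOneCenter p (pCore p G) : Set G)).subgroupOf (E i)).Normal,
              Nonempty (↥(E i) ⧸ (Subgroup.centralizer (omegaOneCenter p (pCore p G) : Set G)).subgroupOf (E i) ≃*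
                Matrix.SpecialLinearGroup (Fin 2) F)) ∧
            ActsAsSL2OnSection F ⊤ (E i) ⁅omegaOneCenter p (pCore p G), E i⁆
              (⁅omegaOneCenter p (pCore p G), E i⁆ ⊓ Subgroup.centralizer ((E i : Subgroup G) : Set G))) ∨
          (p = 2 ∧
            (∃ _ : ((Subgroup.centralizer (omegaOneCenter p (pCore p G) : Set G)).subgroupOf (E i)).Normal,
              Nonempty (↥(E i) ⧸ (Subgroup.centralizer (omegaOneCenter p (pCore p G) : Set G)).subgroupOf (E i) ≃*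
                Equiv.Perm (Fin (2 ^ n + 1)))) ∧
            ActsAsOddPermModuleOnSection (2 ^ n + 1) ⊤ (E i) ⁅omegaOneCenter p (pCore p G), E i⁆
              (⁅omegaOneCenter p (pCore p G), E i⁆ ⊓ Subgroup.centralizer ((E i : Subgroup G) : Set G)))) := by
  classical
  obtain ⟨hVel, hVn, hCn⟩ := coreOmega_facts (G := G) p
  haveI := hVn
  haveI := hVel.1
  haveI := hCn
  set Q := pCore p G with hQ
  set V := omegaOneCenter p Q with hV
  set C := Subgroup.centralizer (V : Set G) with hC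
  set T' := (T : Subgroup G) with hT'
  obtain ⟨-, M, ⟨hMco, hTM⟩, huniq⟩ := hmin T
  have hover : ∀ H : Subgroup G, T' ≤ H → H ≠ ⊤ → H ≤ M := fun H hH hne' => by
    rcases IsCoatomic.eq_top_or_exists_le_coatom H with h | ⟨K, hK, hHK⟩
    · exact absurd h hne'
    · exact huniq K ⟨hK, hH.trans hHK⟩ ▸ hHK
  have hQT : Q ≤ T' := pCore_le_sylow T
  have hQC : Q ≤ C := fun x hx => Subgroup.mem_centralizer_iff.2 fun v hv =>
    (BBlock.omegaOneCenter_comm p _ hv hx).symm
  have hVC : V ≤ C := fun x hx => Subgroup.mem_centralizer_iff.2 fun v hv =>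
    congrArg Subtype.val (hVel.1.is_comm.comm ⟨v, hv⟩ ⟨x, hx⟩)
  have hZV : omegaOneCenter p T' ≤ V := by
    refine (Subgroup.closure_le _).2 fun x hx => Subgroup.subset_closure ⟨⟨hG ?_, ?_⟩, hx.2⟩
    · exact Subgroup.centralizer_le hQT hx.1.2
    · exact Subgroup.centralizer_le hQT hx.1.2
  have hcsM : cStarStarOf p T' ≤ M := by
    refine hover _ (le_trans ?_ le_sup_left) hne
    intro t ht
    exact Subgroup.mem_centralizer_iff.2 fun z hz => (BBlock.omegaOneCenter_comm p _ hz ht).symm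
  have hCM : C ≤ M := le_trans (le_trans (Subgroup.centralizer_le hZV) le_sup_left) hcsM
  haveI : C.Normal := hCn
  -- a normal subgroup inside `M` meets the Sylow subgroup in a normal subgroup
  have hcore : ∀ K : Subgroup G, K.Normal → K ≤ M → T' ⊓ K ≤ Q := by
    intro K hK hKM
    haveI := hK
    have h1 : ¬ Subgroup.normalizer ((T' ⊓ K : Subgroup G) : Set G) ≤ M := fun h1 =>
      hMco.1 (top_le_iff.1 ((frattini_inf T (K := K)).ge.trans (sup_le h1 hKM)))
    have h2 : T' ≤ Subgroup.normalizer ((T' ⊓ K : Subgroup G) : Set G) := fun t ht =>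
      ZJFailure.mem_normalizer_of_forall fun x hx =>
        Subgroup.mem_inf.2 ⟨T'.mul_mem (T'.mul_mem ht hx.1) (T'.inv_mem ht), hK.conj_mem x hx.2 t⟩
    have h3 : Subgroup.normalizer ((T' ⊓ K : Subgroup G) : Set G) = ⊤ := by
      by_contra hne'
      exact h1 (hover _ h2 hne')
    haveI : (T' ⊓ K).Normal := Subgroup.normalizer_eq_top_iff.1 h3
    exact le_pCore (T.2.to_le inf_le_left)
  -- the quotient
  let q : G →* G ⧸ C := QuotientGroup.mk' C
  have hqs : Function.Surjective q := QuotientGroup.mk'_surjective C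
  have hqk : q.ker = C := QuotientGroup.ker_mk' C
  let T₁ : Sylow p (G ⧸ C) := T.mapSurjective hqs
  have hT₁ : (T₁ : Subgroup (G ⧸ C)) = T'.map q := rfl
  set M₁ := M.map q with hM₁
  have hcomapM : M₁.comap q = M := by
    rw [hM₁, Subgroup.comap_map_eq, hqk, sup_eq_left.2 hCM]
  have hPV : (⊤ : Subgroup G) ≤ Subgroup.normalizer (V : Set G) := (Subgroup.normalizer_eq_top_iff.2 hVn).ge
  let ρ₀ : G →* AddMonoid.End (Additive ↥V) :=
    (conjAct hPV).comp (Subgroup.topEquiv (G := G)).symm.toMonoidHom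
  have hρ₀v : ∀ g x, ((Additive.toMul (ρ₀ g x) : ↥V) : G) = g * (Additive.toMul x : ↥V) * g⁻¹ :=
    fun g x => rfl
  have hker : ρ₀.ker = C := by
    ext g
    rw [MonoidHom.mem_ker, hC, Subgroup.mem_centralizer_iff]
    constructor
    · intro h v hv
      have h1 := (act_fixed_iff hPV ⟨g, trivial⟩ (Additive.ofMul ⟨v, hv⟩)).1 (by
        show ρ₀ g _ = _
        rw [h]; rfl)
      exact h1.symm
    · intro h
      refine AddMonoidHom.ext fun x => ?_
      exact (act_fixed_iff hPV ⟨g, trivial⟩ x).2 (h _ (Additive.toMul x).2).symm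
  let ρ : G ⧸ C →* AddMonoid.End (Additive ↥V) := QuotientGroup.lift C ρ₀ hker.ge
  have hρ : ∀ g, ρ (q g) = ρ₀ g := fun g => rfl
  have hρv : ∀ g x, ((Additive.toMul (ρ (q g) x) : ↥V) : G) = g * (Additive.toMul x : ↥V) * g⁻¹ := hρ₀v
  have hfixG : ∀ E : Subgroup G, toG (fix ρ (E.map q)) = V ⊓ Subgroup.centralizer (E : Set G) := fun E => by
    ext g
    rw [mem_toG, Subgroup.mem_inf, Subgroup.mem_centralizer_iff]
    constructor
    · rintro ⟨x, hx, rfl⟩
      exact ⟨(Additive.toMul x).2, fun e he => (act_fixed_iff hPV ⟨e, trivial⟩ x).1 (hx _ ⟨e, he, rfl⟩)⟩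
    · rintro ⟨hg, hc⟩
      refine ⟨Additive.ofMul ⟨g, hg⟩, ?_, rfl⟩
      rintro _ ⟨e, he, rfl⟩
      exact (act_fixed_iff hPV ⟨e, trivial⟩ _).2 (hc e he)
  have himgG : ∀ E : Subgroup G, toG (img ρ (E.map q)) = ⁅V, E⁆ := fun E => by
    refine le_antisymm (fun g hg => ?_) (Subgroup.commutator_le.2 fun v hv e he => ?_)
    · have h : img ρ (E.map q) ≤
          AddSubgroup.comap (AddMonoidHom.id _) (Subgroup.toAddSubgroup ((⁅V, E⁆).subgroupOf V)) := by
        refine (RootCommute.img_le _).2 ?_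
        rintro _ ⟨e, he, rfl⟩ x
        show (((Additive.toMul (ρ (q e) x - x)) : ↥V) : G) ∈ ⁅V, E⁆
        rw [toMul_sub, Subgroup.coe_div, hρv, div_eq_mul_inv, ← commutatorElement_def, ← commutatorElement_inv]
        exact Subgroup.inv_mem _ (Subgroup.commutator_mem_commutator (Additive.toMul x).2 he)
      obtain ⟨x, hx, rfl⟩ := mem_toG.1 hg
      exact h hx
    · have h := (img ρ (E.map q)).neg_mem (sub_mem_img ρ (Subgroup.mem_map_of_mem q he) (Additive.ofMul ⟨v, hv⟩))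
      refine mem_toG.2 ⟨_, h, ?_⟩
      rw [neg_sub, toMul_sub, Subgroup.coe_div, hρv, toMul_ofMul, div_eq_mul_inv, commutatorElement_def]
      show v * (e * v * e⁻¹)⁻¹ = v * e * v⁻¹ * e⁻¹
      group
  have hov : Over ρ T₁ M₁ := by
    refine ⟨fun a b e => ?_, fun x => ?_, Subgroup.map_mono hTM, fun e => hMco.1 ?_, fun H hH hne' => ?_,
      fun N hN hNp => ?_⟩
    · obtain ⟨a, rfl⟩ := hqs a
      obtain ⟨b, rfl⟩ := hqs b
      refine QuotientGroup.eq.2 ?_
      rw [← hker, MonoidHom.mem_ker, map_mul]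
      have e' : ρ₀ a = ρ₀ b := e
      rw [← e', ← map_mul, inv_mul_cancel, map_one]
    · refine Additive.toMul.injective (Subtype.ext ?_)
      show (((Additive.toMul x : ↥V) ^ p : ↥V) : G) = 1
      rw [SubmonoidClass.coe_pow]
      exact hVel.2 _ (Additive.toMul x).2
    · rw [← hcomapM, e, Subgroup.comap_top]
    · have h1 : H.comap q ≤ M := hover _ (fun t ht => hH ⟨t, ht, rfl⟩) fun e => hne' (by
        rw [← Subgroup.map_comap_eq_self_of_surjective hqs H, e, Subgroup.map_top_of_surjective _ hqs])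
      rw [← Subgroup.map_comap_eq_self_of_surjective hqs H]
      exact Subgroup.map_mono h1
    · haveI := hN
      set K := N.comap q
      obtain ⟨R, hR⟩ := hNp.exists_le_sylow
      obtain ⟨y, hy⟩ := MulAction.exists_smul_eq (G ⧸ C) R T₁
      have hNT : N ≤ T'.map q := fun x hx => by
        rw [← hT₁, ← hy]
        refine ⟨y⁻¹ * x * y, hR ?_, ?_⟩
        · have := hN.conj_mem x hx y⁻¹
          rwa [inv_inv] at this
        · show y * (y⁻¹ * x * y) * y⁻¹ = x
          group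
      have hKM : K ≤ M := fun k hk => by
        obtain ⟨t, ht, e⟩ := hNT hk
        have h2 : t⁻¹ * k ∈ C := QuotientGroup.eq.1 e
        have := M.mul_mem (hTM ht) (hCM h2)
        rwa [mul_inv_cancel_left] at this
      refine (eq_bot_iff.2 fun x hx => Subgroup.mem_bot.2 ?_)
      obtain ⟨t, ht, rfl⟩ := hNT hx
      exact (QuotientGroup.eq_one_iff t).2 (hQC (hcore K inferInstance hKM ⟨ht, hx⟩))
  -- offenders
  have hmax : ∀ A ∈ maxElementaryAbelianSubgroups p G,
      (∀ a ∈ A.map q, ∀ c ∈ A.map q, a * c = c * a) ∧ (∀ a ∈ A.map q, a ^ p = 1) ∧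
        Nat.card (Additive ↥V) ≤ mu ρ (A.map q) := by
    intro A hA
    obtain ⟨hel, hmx⟩ := hA
    refine ⟨?_, ?_, ?_⟩
    · rintro _ ⟨a, ha, rfl⟩ _ ⟨c, hc, rfl⟩
      rw [← map_mul, ← map_mul]
      exact congrArg _ (congrArg Subtype.val (hel.1.is_comm.comm ⟨a, ha⟩ ⟨c, hc⟩))
    · rintro _ ⟨a, ha, rfl⟩
      rw [← map_pow, hel.2 a ha, map_one]
    set B := A ⊓ C
    set D := B ⊔ V
    have hBVc : ∀ b ∈ B, ∀ v ∈ V, b * v = v * b := fun b hb v hv => (hb.2 v hv).symm
    have hDc : D ≤ Subgroup.centralizer (D : Set G) := by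
      have h1 : ∀ x ∈ (B : Set G) ∪ V, ∀ y ∈ (B : Set G) ∪ V, x * y = y * x := by
        rintro x (hx | hx) y (hy | hy)
        · exact congrArg Subtype.val (hel.1.is_comm.comm ⟨x, hx.1⟩ ⟨y, hy.1⟩)
        · exact hBVc x hx y hy
        · exact (hBVc y hy x hx).symm
        · exact congrArg Subtype.val (hVel.1.is_comm.comm ⟨x, hx⟩ ⟨y, hy⟩)
      have hD : D = Subgroup.closure ((B : Set G) ∪ V) := by rw [Subgroup.closure_union, Subgroup.closure_eq, Subgroup.closure_eq]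
      rw [hD, Subgroup.centralizer_closure]
      exact (Subgroup.closure_le _).2 fun x hx => Subgroup.mem_centralizer_iff.2 fun y hy => h1 y hy x hx
    have hDel : IsElementaryAbelian p D := by
      refine ⟨⟨⟨fun x y => Subtype.ext (Subgroup.mem_centralizer_iff.1 (hDc y.2) x x.2)⟩⟩, fun x hx => ?_⟩
      let S : Subgroup G :=
        { carrier := {x | x ∈ D ∧ x ^ p = 1}
          one_mem' := ⟨one_mem _, one_pow _⟩
          mul_mem' := fun {a b} ha hb => ⟨mul_mem ha.1 hb.1, by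
            rw [(show Commute a b from Subgroup.mem_centralizer_iff.1 (hDc hb.1) a ha.1).mul_pow, ha.2, hb.2, one_mul]⟩
          inv_mem' := fun {a} ha => ⟨inv_mem ha.1, by rw [inv_pow, ha.2, inv_one]⟩ }
      have hS : D ≤ S := sup_le (fun b hb => ⟨Subgroup.mem_sup_left hb, hel.2 b hb.1⟩)
        fun v hv => ⟨Subgroup.mem_sup_right hv, hVel.2 v hv⟩
      exact (hS hx).2
    have hDle : Nat.card D ≤ Nat.card A := hmx D hDel
    have h2 := Products.card_mul_card_le B V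
    have hq' : Nat.card A = Nat.card ↥B * Nat.card ↥(A.map q) := by
      have h3 := (q.comp A.subtype).ker.card_mul_index
      rw [Subgroup.index_ker, MonoidHom.range_comp, Subgroup.range_subtype] at h3
      rw [← h3]
      congr 1
      exact Nat.card_congr
        { toFun := fun x => ⟨((x : A) : G), (x : A).2, (QuotientGroup.eq_one_iff _).1 x.2⟩
          invFun := fun x => ⟨⟨(x : G), x.2.1⟩, (QuotientGroup.eq_one_iff (x : G)).2 x.2.2⟩
          left_inv := fun x => rfl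
          right_inv := fun x => rfl }
    have hfx : Nat.card (fix ρ (A.map q)) = Nat.card ↥(V ⊓ Subgroup.centralizer (A : Set G)) := by
      rw [← card_toG, hfixG]
      exact hPV
    have hBV : Nat.card ↥(B ⊓ V) ≤ Nat.card ↥(V ⊓ Subgroup.centralizer (A : Set G)) :=
      Subgroup.card_le_of_le fun x hx => ⟨hx.2, Subgroup.mem_centralizer_iff.2 fun a ha =>
        congrArg Subtype.val (hel.1.is_comm.comm ⟨a, ha⟩ ⟨x, hx.1.1⟩)⟩
    have h4 : Nat.card B * Nat.card V ≤ Nat.card B * mu ρ (A.map q) := by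
      rw [mu, hfx, ← mul_assoc, ← hq']
      exact h2.trans (Nat.mul_le_mul hDle hBV)
    exact (Nat.card_congr Additive.toMul).trans_le (Nat.le_of_mul_le_mul_left h4 Nat.card_pos)
  set J := thompsonSubgroup p G with hJ
  haveI hJn : J.Normal := Offender.thompsonSubgroup_normal'
  have hJC : ¬ J ≤ C := fun hJC => by
    have h1 : J ≤ T' := sSup_le fun A hA => by
      obtain ⟨g, hg, hgA⟩ := exists_conj_max T hA
      intro a ha
      have h2 : g * a * g⁻¹ ∈ Q :=
        hcore C hCn hCM (Subgroup.mem_inf.2 ⟨hg ⟨a, ha, rfl⟩, hJC (le_sSup hgA ⟨a, ha, rfl⟩)⟩)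
      have h3 := (inferInstance : Q.Normal).conj_mem _ h2 g⁻¹
      rw [inv_inv, show g⁻¹ * (g * a * g⁻¹) * g = a by group] at h3
      exact hQT h3
    refine hne (top_le_iff.1 (le_trans ?_ le_sup_right))
    rw [thompsonSubgroupOf_eq T h1, Subgroup.normalizer_eq_top_iff.2 hJn]
  obtain ⟨A₀, hA₀, hA₀C⟩ : ∃ A ∈ maxElementaryAbelianSubgroups p G, ¬ A ≤ C := by
    by_contra hno
    push Not at hno
    exact hJC (sSup_le hno)
  obtain ⟨g₀, hg₀T, hg₀max⟩ := exists_conj_max T hA₀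
  have hg₀C : (cm g₀ A₀).map q ≠ ⊥ := fun e => hA₀C fun a ha => by
    have h1 : q (g₀ * a * g₀⁻¹) ∈ (cm g₀ A₀).map q := Subgroup.mem_map_of_mem q ⟨a, ha, rfl⟩
    rw [e, Subgroup.mem_bot] at h1
    have h2 := hCn.conj_mem _ ((QuotientGroup.eq_one_iff _).1 h1) g₀⁻¹
    rwa [inv_inv, show g₀⁻¹ * (g₀ * a * g₀⁻¹) * g₀ = a by group] at h2
  have hoff : HasOffender ρ T₁ := by
    obtain ⟨h1, h2, h3⟩ := hmax _ hg₀max
    exact ⟨_, Subgroup.map_mono hg₀T, h1, h2, hg₀C, h3⟩
  obtain ⟨r, E, hr, hcomm, hind, hsup, htrans, hsum, hother, hsec, hnorm, hin, hleast⟩ :=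
    lifted_generated hsp hov hoff
  set F := fun i => (E i).comap q with hF
  have hFmap : ∀ i, (F i).map q = E i := fun i => Subgroup.map_comap_eq_self_of_surjective hqs _
  have hCF : ∀ i, C ≤ F i := fun i => by
    intro x hx
    show q x ∈ E i
    rw [show q x = 1 from (QuotientGroup.eq_one_iff x).2 hx]
    exact one_mem _
  have hFsup : (⨆ i, F i).map q = ⨆ i, E i := by
    rw [Subgroup.map_iSup]; simp only [hFmap]
  have hJE : J.map q = ⨆ i, E i := by
    refine le_antisymm ?_ (hleast _ (hJn.map q hqs) ?_)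
    · rw [hJ, Subgroup.map_le_iff_le_comap]
      refine sSup_le fun A hA => ?_
      obtain ⟨g, hg, hgA⟩ := exists_conj_max T hA
      obtain ⟨h1, h2, h3⟩ := hmax _ hgA
      intro a ha
      have h4 := hin _ (Subgroup.map_mono hg) h1 h2 h3 (Subgroup.mem_map_of_mem q ⟨a, ha, rfl⟩)
      have h5 := hnorm.conj_mem _ h4 (q g)⁻¹
      rw [inv_inv] at h5
      show q a ∈ ⨆ i, E i
      rwa [MulEquiv.coe_toMonoidHom, MulAut.conj_apply, map_mul, map_mul, map_inv,
        show (q g)⁻¹ * (q g * q a * (q g)⁻¹) * q g = q a by group] at h5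
    · obtain ⟨h1, h2, h3⟩ := hmax _ hg₀max
      exact ⟨_, Subgroup.map_mono (le_sSup hg₀max), Subgroup.map_mono hg₀T, h1, h2, hg₀C, h3⟩
  have hsupF : (⨆ i, F i) = J ⊔ C := by
    have h1 : C ≤ ⨆ i, F i := (hCF ⟨0, hr⟩).trans (le_iSup F _)
    have h2 : (⨆ i, F i) = ((⨆ i, F i).map q).comap q := by
      rw [Subgroup.comap_map_eq, hqk, sup_eq_left.2 h1]
    rw [h2, hFsup, ← hJE, Subgroup.comap_map_eq, hqk]
  have htoF : ∀ i, toG (fix ρ (E i)) = V ⊓ Subgroup.centralizer (F i : Set G) := fun i => by rw [← hfixG, hFmap]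
  have htoI : ∀ i, toG (img ρ (E i)) = ⁅V, F i⁆ := fun i => by rw [← himgG, hFmap]
  refine ⟨r, F, hCF, ?_, hsupF, fun i j hij => ?_, fun i => ?_, fun i j => ?_, ?_, fun i j hij => ?_, fun i => ?_⟩
  · have h1 : (J ⊔ T').map q = ⊤ := by rw [Subgroup.map_sup, hJE, ← hT₁, hsup]
    have h2 : ((J ⊔ T').map q).comap q = J ⊔ T' ⊔ C := by rw [Subgroup.comap_map_eq, hqk]
    rw [← h2, h1, Subgroup.comap_top]
  · rw [Subgroup.commutator_le]
    intro a ha b hb
    refine (QuotientGroup.eq_one_iff _).1 ?_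
    show q ⁅a, b⁆ = 1
    rw [map_commutatorElement, commutatorElement_eq_one_iff_mul_comm]
    exact hcomm i j hij _ ha _ hb
  · intro x hx
    refine (QuotientGroup.eq_one_iff x).1 ?_
    have h1 : q x ∈ E i ⊓ (⨆ j ∈ {j | j ≠ i}, E j) := ⟨hx.1, by
      have h2 := Subgroup.mem_map_of_mem q hx.2
      simp only [Subgroup.map_iSup, hFmap] at h2
      exact h2⟩
    rwa [hind i, Subgroup.mem_bot] at h1
  · obtain ⟨t, ht, h⟩ := htrans i j
    obtain ⟨s, hs, rfl⟩ := ht
    refine ⟨s, hs, ?_⟩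
    ext x
    show x ∈ cm s (F i) ↔ x ∈ F j
    rw [RootCommute.mem_cm]
    show q (s⁻¹ * x * s) ∈ E i ↔ q x ∈ E j
    rw [← h, RootCommute.mem_cm, map_mul, map_mul, map_inv]
  · have h1 : toG (fix ρ (⨆ i, E i)) = V ⊓ Subgroup.centralizer ((⨆ i, F i : Subgroup G) : Set G) := by
      rw [← hfixG, hFsup]
    simp only [← htoI]
    rw [← h1, ← toG_iSup, ← toG_sup, hsum, toG_top]
  · rw [Subgroup.commutator_eq_bot_iff_le_centralizer, ← htoI]
    refine le_trans ?_ (inf_le_right : V ⊓ Subgroup.centralizer ((F j : Subgroup G) : Set G) ≤ _)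
    rw [← htoF]
    exact Subgroup.map_mono (fun x hx => hother i j hij hx)
  obtain ⟨n, hn, h⟩ := hsec i
  set Y := ⁅V, F i⁆ with hY
  have hYV : Y ≤ V := by rw [hY, ← htoI]; exact Subgroup.map_subtype_le _
  let mk : ↥Y → ↥(img ρ (E i)) := fun u =>
    ⟨Additive.ofMul ⟨u, hYV u.2⟩, (toG_mem (x := Additive.ofMul (⟨u, hYV u.2⟩ : ↥V))).1 (by rw [htoI]; exact u.2)⟩
  have hmk : Function.Surjective mk := fun x =>
    ⟨⟨((Additive.toMul (x : Additive ↥V) : ↥V) : G), by rw [hY, ← htoI]; exact toG_mem.2 x.2⟩, Subtype.ext rfl⟩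
  have hnormY : F i ≤ Subgroup.normalizer (Y : Set G) := fun e he => by
    refine ZJFailure.mem_normalizer_of_forall fun y hy => ?_
    rw [hY, ← htoI] at hy ⊢
    obtain ⟨x, hx, rfl⟩ := mem_toG.1 hy
    have h2 := (img ρ (E i)).add_mem (sub_mem_img ρ (show q e ∈ E i from he) x) hx
    rw [sub_add_cancel] at h2
    exact (hρv e x) ▸ toG_mem.2 h2
  have hU0 : ∀ u : ↥Y, (u : G) ∈ Y ⊓ Subgroup.centralizer (F i : Set G) ↔
      ((mk u : ↥(img ρ (E i))) : Additive ↥V) ∈ fix ρ (E i) := fun u => by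
    have h1 : (u : G) ∈ toG (fix ρ (E i)) ↔ _ := toG_mem (x := Additive.ofMul (⟨u, hYV u.2⟩ : ↥V))
    rw [htoF] at h1
    exact ⟨fun h => h1.1 ⟨hYV u.2, h.2⟩, fun h => ⟨u.2, (h1.2 h).2⟩⟩
  have hmkmul : ∀ a c, mk (a * c) = mk a + mk c := fun a c => Subtype.ext rfl
  let φ : ↥(F i) →* ↥(E i) := (q.comp (F i).subtype).codRestrict (E i) fun e => e.2
  have hφs : Function.Surjective φ := fun e => by
    obtain ⟨g, hg⟩ := hqs (e : G ⧸ C)
    exact ⟨⟨g, show q g ∈ E i by rw [hg]; exact e.2⟩, Subtype.ext hg⟩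
  have hconj : ∀ (e : ↥(F i)) (u : ↥Y), ∃ w : ↥Y, (w : G) = (e : G) * (u : G) * (e : G)⁻¹ ∧
      ((mk w : ↥(img ρ (E i))) : Additive ↥V) = ρ ((φ e : ↥(E i)) : G ⧸ C) (mk u) := fun e u =>
    ⟨⟨(e : G) * (u : G) * (e : G)⁻¹, (Subgroup.mem_normalizer_iff.1 (hnormY e.2) u).1 u.2⟩, rfl, rfl⟩
  haveI hCFn : (C.subgroupOf (F i)).Normal := hCn.comap (F i).subtype
  have hφk : φ.ker = C.subgroupOf (F i) := by
    ext e
    rw [MonoidHom.mem_ker, Subgroup.mem_subgroupOf]
    exact ⟨fun h => (QuotientGroup.eq_one_iff _).1 (congrArg Subtype.val h),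
      fun h => Subtype.ext ((QuotientGroup.eq_one_iff (e : G)).2 h)⟩
  have eF : ↥(F i) ⧸ C.subgroupOf (F i) ≃* ↥(E i) :=
    (QuotientGroup.quotientMulEquivOfEq hφk.symm).trans (QuotientGroup.quotientKerEquivOfSurjective φ hφs)
  refine ⟨n, hn, ?_⟩
  rcases h with ⟨K, iK, iK', e, ψ, hcard, hs, hk, he⟩ | ⟨hp2, e, ψ, hsum', hs, hk, he⟩
  · refine Or.inl ⟨K, iK, iK', hcard, ⟨hCFn, ⟨eF.trans e⟩⟩, hnormY, inf_le_left, e.toMonoidHom.comp φ,
      MonoidHom.mk' (fun u => Multiplicative.ofAdd (ψ (mk u))) (fun a c => by rw [hmkmul, map_add, ofAdd_add]),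
      MonoidHom.range_eq_top.2 (e.surjective.comp hφs), fun v => ?_, fun u => ?_, fun g u => ?_⟩
    · obtain ⟨x, hx⟩ := hs (Multiplicative.toAdd v)
      obtain ⟨u, rfl⟩ := hmk x
      exact ⟨u, congrArg Multiplicative.ofAdd hx⟩
    · rw [hU0, ← hk]; exact ofAdd_eq_one
    · obtain ⟨w, hw, hwe⟩ := hconj g u
      exact ⟨w, hw, he (φ g) (mk u) (mk w) hwe⟩
  · refine Or.inr ⟨hp2, ⟨hCFn, ⟨eF.trans e⟩⟩, hnormY, inf_le_left, e.toMonoidHom.comp φ,
      MonoidHom.mk' (fun u => Multiplicative.ofAdd (ψ (mk u))) (fun a c => by rw [hmkmul, map_add, ofAdd_add]),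
      MonoidHom.range_eq_top.2 (e.surjective.comp hφs), fun u => hsum' _, fun v hv => ?_, fun u => ?_,
      fun g u => ?_⟩
    · obtain ⟨x, hx⟩ := hs v hv
      obtain ⟨u, rfl⟩ := hmk x
      exact ⟨u, hx⟩
    · rw [hU0, ← hk]; exact ofAdd_eq_one
    · obtain ⟨w, hw, hwe⟩ := hconj g u
      exact ⟨w, hw, fun k => he (φ g) (mk u) (mk w) k hwe⟩

end CfsgLib.RootBlocks
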