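import Cfsg.Agent.Lib.RootBlocks.Defs
import Cfsg.Agent.Lib.Basic
import Cfsg.Agent.Lib.SL2Pair
import Mathlib.Data.ZMod.Basic

/-!
Coordinates in blocks, and how the blocks are moved.
-/

set_option autoImplicit false
set_option linter.unusedSectionVars false

namespace CfsgLib.RootBlocks

open CfsgLib CfsgLib.RootCommute
open CfsgLib.SL2Pair (fix)
open CfsgLib.StrongFusion (cm)

universe u v w

variable {P : Type u} [Group P] [Finite P] {U : Type v} [AddCommGroup U] [Finite U] {p : ℕ} [hp : Fact p.Prime]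
  {ρ : P →* AddMonoid.End U} {T : Sylow p P} {ι : Type w} [Fintype ι] {F : Type} [Field F] [Fintype F]

namespace Blocks

variable (b : Blocks ρ T ι F)
include b

theorem unique {x y x' y' : ι → F}
    (h : ∑ i, (b.ex i (x i) + b.ey i (y i)) = ∑ i, (b.ex i (x' i) + b.ey i (y' i))) : ∀ i, x i = x' i ∧ y i = y' i := by
  intro i
  have h1 := b.indep (fun i => x i - x' i) (fun i => y i - y' i) (by
    rw [← sub_eq_zero, ← Finset.sum_sub_distrib] at h
    refine Eq.trans (Finset.sum_congr rfl fun i _ => ?_) h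
    simp only [map_sub]
    abel) i
  exact ⟨sub_eq_zero.1 h1.1, sub_eq_zero.1 h1.2⟩

/-- The first coordinate in a block. -/
noncomputable def cx (i : ι) : U →+ F :=
  AddMonoidHom.mk' (fun u => (b.dec u).choose i) fun u w => by
    have h1 := (b.dec u).choose_spec.choose_spec
    have h2 := (b.dec w).choose_spec.choose_spec
    have h3 := (b.dec (u + w)).choose_spec.choose_spec
    refine (b.unique (x' := fun i => (b.dec u).choose i + (b.dec w).choose i)
      (y' := fun i => (b.dec u).choose_spec.choose i + (b.dec w).choose_spec.choose i) (h3.symm.trans ?_) i).1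
    conv_lhs => rw [h1, h2, ← Finset.sum_add_distrib]
    exact Finset.sum_congr rfl fun i _ => by simp only [map_add]; abel

/-- The second coordinate in a block. -/
noncomputable def cy (i : ι) : U →+ F :=
  AddMonoidHom.mk' (fun u => (b.dec u).choose_spec.choose i) fun u w => by
    have h1 := (b.dec u).choose_spec.choose_spec
    have h2 := (b.dec w).choose_spec.choose_spec
    have h3 := (b.dec (u + w)).choose_spec.choose_spec
    refine (b.unique (x' := fun i => (b.dec u).choose i + (b.dec w).choose i)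
      (y' := fun i => (b.dec u).choose_spec.choose i + (b.dec w).choose_spec.choose i) (h3.symm.trans ?_) i).2
    conv_lhs => rw [h1, h2, ← Finset.sum_add_distrib]
    exact Finset.sum_congr rfl fun i _ => by simp only [map_add]; abel

theorem sum_coords (u : U) : u = ∑ i, (b.ex i (b.cx i u) + b.ey i (b.cy i u)) :=
  (b.dec u).choose_spec.choose_spec

theorem coords_sum (x y : ι → F) (i : ι) :
    b.cx i (∑ j, (b.ex j (x j) + b.ey j (y j))) = x i ∧ b.cy i (∑ j, (b.ex j (x j) + b.ey j (y j))) = y i :=
  b.unique (b.sum_coords _).symm i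

theorem ext_coords {u v : U} (h : ∀ i, b.cx i u = b.cx i v ∧ b.cy i u = b.cy i v) : u = v := by
  rw [b.sum_coords u, b.sum_coords v]
  exact Finset.sum_congr rfl fun i _ => by rw [(h i).1, (h i).2]

theorem coords_ex [DecidableEq ι] (i j : ι) (x : F) :
    b.cx j (b.ex i x) = (if j = i then x else 0) ∧ b.cy j (b.ex i x) = 0 := by
  have h := b.coords_sum (fun k => if k = i then x else 0) (fun _ => 0) j
  simp only [map_zero, add_zero] at h
  rw [Finset.sum_eq_single i (fun k _ hk => by rw [if_neg hk, map_zero]) (fun hi => absurd (Finset.mem_univ i) hi),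
    if_pos rfl] at h
  exact h

theorem coords_ey [DecidableEq ι] (i j : ι) (y : F) :
    b.cx j (b.ey i y) = 0 ∧ b.cy j (b.ey i y) = (if j = i then y else 0) := by
  have h := b.coords_sum (fun _ => 0) (fun k => if k = i then y else 0) j
  simp only [map_zero, zero_add] at h
  rw [Finset.sum_eq_single i (fun k _ hk => by rw [if_neg hk, map_zero]) (fun hi => absurd (Finset.mem_univ i) hi),
    if_pos rfl] at h
  exact h

theorem cx_ex (i : ι) (x : F) : b.cx i (b.ex i x) = x := by classical simp [(b.coords_ex i i x).1]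

theorem cy_ex (i j : ι) (x : F) : b.cy j (b.ex i x) = 0 := by classical exact (b.coords_ex i j x).2

theorem cy_ey (i : ι) (y : F) : b.cy i (b.ey i y) = y := by classical simp [(b.coords_ey i i y).2]

theorem cx_ey (i j : ι) (y : F) : b.cx j (b.ey i y) = 0 := by classical exact (b.coords_ey i j y).1

theorem cx_ex_ne {i j : ι} (h : j ≠ i) (x : F) : b.cx j (b.ex i x) = 0 := by classical simp [(b.coords_ex i j x).1, h]

theorem cy_ey_ne {i j : ι} (h : j ≠ i) (y : F) : b.cy j (b.ey i y) = 0 := by classical simp [(b.coords_ey i j y).2, h]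

/-- The action of an element fixing all blocks but one. -/
theorem act_eq {i : ι} {g : P} (hg : g ∈ b.grp i) (u : U) :
    ρ g u = u + ((ρ g (b.ex i (b.cx i u)) - b.ex i (b.cx i u)) + (ρ g (b.ey i (b.cy i u)) - b.ey i (b.cy i u))) := by
  classical
  conv_lhs => rw [b.sum_coords u, map_sum, ← Finset.add_sum_erase _ _ (Finset.mem_univ i),
    Finset.sum_congr rfl fun j hj => show ρ g (b.ex j (b.cx j u) + b.ey j (b.cy j u)) =
      b.ex j (b.cx j u) + b.ey j (b.cy j u) by
        rw [map_add, (b.other i j (Finset.ne_of_mem_erase hj).symm g hg _).1,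
          (b.other i j (Finset.ne_of_mem_erase hj).symm g hg _).2]]
  conv_rhs => arg 1; rw [b.sum_coords u, ← Finset.add_sum_erase _ _ (Finset.mem_univ i)]
  rw [map_add]
  abel

theorem av_act (i : ι) (t : F) (u : U) : ρ (b.av i t) u = u + b.ex i (t * b.cy i u) := by
  rw [b.act_eq (b.A_le_grp i (b.av_mem i t)), b.a_ex, b.a_ey, sub_self, zero_add, add_sub_cancel_left]

theorem rv_act (i : ι) (t : F) (u : U) : ρ (b.rv i t) u = u + b.ey i (t * b.cx i u) := by
  rw [b.act_eq (b.rv_mem i t), b.r_ey, b.r_ex, sub_self, add_zero, add_sub_cancel_left]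

theorem av_injective (i : ι) : Function.Injective (b.av i) := fun s t h => by
  have := congrArg (fun g => b.cx i (ρ g (b.ey i 1))) h
  simpa [b.av_act, map_add, b.cx_ey, b.cy_ey, b.cx_ex] using this

theorem av_add (i : ι) (s t : F) : b.av i (s + t) = b.av i s * b.av i t := act_ext ρ b.inj fun u => by
  rw [act_mul, b.av_act, b.av_act i t, b.av_act i s, map_add (b.cy i), b.cy_ex, add_zero, add_mul, map_add]
  abel

theorem av_zero (i : ι) : b.av i 0 = 1 := act_ext ρ b.inj fun u => by
  rw [b.av_act, zero_mul, map_zero, add_zero, act_one]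

theorem A_injective : Function.Injective b.A := fun i j h => by
  by_contra hne
  have h1 := (b.other j i (Ne.symm hne) _ (b.A_le_grp j (h ▸ b.av_mem i 1)) 1).2
  rw [b.a_ey, add_eq_left, one_mul] at h1
  have := congrArg (b.cx i) h1
  rw [b.cx_ex, map_zero] at this
  exact one_ne_zero this

theorem card_A (i : ι) : Nat.card (b.A i) = Fintype.card F := by
  rw [← Nat.card_eq_fintype_card]
  exact (Nat.card_eq_of_bijective (fun t => (⟨b.av i t, b.av_mem i t⟩ : b.A i))
    ⟨fun s t e => b.av_injective i (congrArg Subtype.val e),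
      fun a => (b.av_surj i a a.2).imp fun t ht => Subtype.ext ht⟩).symm

/-- The span of one block. -/
def space (i : ι) : AddSubgroup U := (b.ex i).range ⊔ (b.ey i).range

theorem mem_space {i : ι} {u : U} : u ∈ b.space i ↔ ∀ j, j ≠ i → b.cx j u = 0 ∧ b.cy j u = 0 := by
  classical
  constructor
  · intro h j hj
    obtain ⟨_, ⟨x, rfl⟩, _, ⟨y, rfl⟩, rfl⟩ := AddSubgroup.mem_sup.1 h
    rw [map_add, map_add, b.cx_ex_ne hj, b.cy_ex, b.cx_ey, b.cy_ey_ne hj, add_zero]
    exact ⟨rfl, rfl⟩
  · intro h
    rw [b.sum_coords u, Finset.sum_eq_single i (fun j _ hj => by rw [(h j hj).1, (h j hj).2, map_zero, map_zero, add_zero])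
      (fun hi => absurd (Finset.mem_univ i) hi)]
    exact AddSubgroup.mem_sup.2 ⟨_, ⟨_, rfl⟩, _, ⟨_, rfl⟩, rfl⟩

theorem img_grp (i : ι) : img ρ (b.grp i) = b.space i := by
  refine le_antisymm ?_ (sup_le ?_ ?_)
  · have h : b.grp i ≤ cosetStab ρ (b.space i) := by
      rw [b.gen i]
      refine sup_le (fun a ha u => ?_) ((Subgroup.closure_le _).2 ?_)
      · obtain ⟨t, rfl⟩ := b.av_surj i a ha
        rw [b.av_act, add_sub_cancel_left]
        exact AddSubgroup.mem_sup_left ⟨_, rfl⟩
      · rintro _ ⟨t, rfl⟩ u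
        rw [b.rv_act, add_sub_cancel_left]
        exact AddSubgroup.mem_sup_right ⟨_, rfl⟩
    exact (img_le ρ).2 fun a ha u => h ha u
  · rintro _ ⟨x, rfl⟩
    have := sub_mem_img ρ (b.A_le_grp i (b.av_mem i x)) (b.ey i 1)
    rwa [b.a_ey, add_sub_cancel_left, mul_one] at this
  · rintro _ ⟨y, rfl⟩
    have := sub_mem_img ρ (b.rv_mem i y) (b.ex i 1)
    rwa [b.r_ex, add_sub_cancel_left, mul_one] at this

theorem moved_space {g : P} {i j : ι} (h : cm g (b.grp i) = b.grp j) {u : U} (hu : u ∈ b.space i) :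
    ρ g u ∈ b.space j := by
  rw [← b.img_grp, ← h]
  exact mem_img_cm ρ (b.img_grp i ▸ hu)

theorem fix_A (i : ι) {u : U} : u ∈ fix ρ (b.A i) ↔ b.cy i u = 0 := by
  constructor
  · intro h
    have h1 := h _ (b.av_mem i 1)
    rw [b.av_act, add_eq_left, one_mul] at h1
    have h2 := congrArg (b.cx i) h1
    rwa [b.cx_ex, map_zero] at h2
  · intro h a ha
    obtain ⟨t, rfl⟩ := b.av_surj i a ha
    rw [b.av_act, h, mul_zero, map_zero, add_zero]

theorem card_U : Nat.card U = Fintype.card F ^ (2 * Fintype.card ι) := by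
  classical
  have e : Function.Bijective fun u : U => fun i => (b.cx i u, b.cy i u) :=
    ⟨fun u v h => b.ext_coords fun i => by simpa using congrFun h i,
      fun f => ⟨∑ i, (b.ex i (f i).1 + b.ey i (f i).2), funext fun i => by
        obtain ⟨h1, h2⟩ := b.coords_sum (fun i => (f i).1) (fun i => (f i).2) i
        exact Prod.ext h1 h2⟩⟩
  rw [Nat.card_eq_of_bijective _ e, Nat.card_eq_fintype_card, Fintype.card_fun, Fintype.card_prod, ← pow_two,
    ← pow_mul]

theorem idx_A (i : ι) : Nat.card U = Fintype.card F * Nat.card (fix ρ (b.A i)) := by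
  have hk : (b.cy i).ker = fix ρ (b.A i) := by ext u; rw [AddMonoidHom.mem_ker, b.fix_A]
  have hs : (b.cy i).range = ⊤ := eq_top_iff.2 fun y _ => ⟨b.ey i y, b.cy_ey i y⟩
  have h := (b.cy i).ker.card_mul_index
  rw [AddSubgroup.index_ker, hk, hs, AddSubgroup.card_top] at h
  rw [← h, ← Nat.card_eq_fintype_card (α := F), mul_comm]

/-- Scalars on one block. -/
noncomputable def scal (i : ι) (c : F) (u : U) : U := b.ex i (c * b.cx i u) + b.ey i (c * b.cy i u)

theorem grp_linear {i : ι} {g : P} (hg : g ∈ b.grp i) (c : F) (u : U) :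
    ρ g (b.scal i c u) = b.scal i c (ρ g u) := by
  let H : Subgroup P :=
    { carrier := {g | ∀ c u, ρ g (b.scal i c u) = b.scal i c (ρ g u)}
      one_mem' := fun c u => by rw [act_one, act_one]
      mul_mem' := fun {g k} hg hk c u => by rw [act_mul, hk, hg, act_mul]
      inv_mem' := fun {g} hg c u => by
        refine act_injective ρ g ?_
        rw [act_inv', hg, act_inv'] }
  have h : b.grp i ≤ H := by
    rw [b.gen i]
    refine sup_le (fun a ha => ?_) ((Subgroup.closure_le _).2 ?_)
    · obtain ⟨t, rfl⟩ := b.av_surj i a ha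
      intro c u
      simp only [scal, map_add, b.a_ex, b.a_ey, b.av_act i t u, b.cx_ex, b.cy_ex, add_zero, mul_add, mul_left_comm c t]
      abel
    · rintro _ ⟨t, rfl⟩ c u
      simp only [scal, map_add, b.r_ey, b.r_ex, b.rv_act i t u, b.cx_ey, b.cy_ey, add_zero, mul_add, mul_left_comm c t]
      abel
  exact h hg c u

end Blocks

end CfsgLib.RootBlocks
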