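import Cfsg.Agent.Lib.RootCommute.Module
import Mathlib.Algebra.BigOperators.Group.Finset.Basic

/-!
A module that is the direct sum of natural rank-one blocks, permuted by a Sylow subgroup. (Definitions only.)
-/

set_option autoImplicit false
set_option linter.unusedSectionVars false

namespace CfsgLib.RootBlocks

open CfsgLib CfsgLib.RootCommute
open CfsgLib.SL2Pair (fix)
open CfsgLib.StrongFusion (cm)

universe u v w

variable {P : Type u} [Group P] [Finite P] {U : Type v} [AddCommGroup U] [Finite U]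
  {p : ℕ} [hp : Fact p.Prime]

/-- Natural blocks over a field, one for each index. -/
structure Blocks (ρ : P →* AddMonoid.End U) (T : Sylow p P) (ι : Type w) [Fintype ι] (F : Type) [Field F]
    [Fintype F] where
  inj : Function.Injective ρ
  smul_zero : ∀ x : U, p • x = 0
  cast_zero : (p : F) = 0
  A : ι → Subgroup P
  grp : ι → Subgroup P
  ex : ι → F →+ U
  ey : ι → F →+ U
  av : ι → F → P
  rv : ι → F → P
  av_mem : ∀ i t, av i t ∈ A i
  av_surj : ∀ i, ∀ a ∈ A i, ∃ t, av i t = a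
  A_le_grp : ∀ i, A i ≤ grp i
  rv_mem : ∀ i t, rv i t ∈ grp i
  gen : ∀ i, grp i = A i ⊔ Subgroup.closure (Set.range (rv i))
  A_le : ∀ i, A i ≤ (T : Subgroup P)
  a_ex : ∀ i t x, ρ (av i t) (ex i x) = ex i x
  a_ey : ∀ i t y, ρ (av i t) (ey i y) = ey i y + ex i (t * y)
  r_ey : ∀ i t y, ρ (rv i t) (ey i y) = ey i y
  r_ex : ∀ i t x, ρ (rv i t) (ex i x) = ex i x + ey i (t * x)
  other : ∀ i j, i ≠ j → ∀ g ∈ grp i, ∀ x, ρ g (ex j x) = ex j x ∧ ρ g (ey j x) = ey j x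
  dec : ∀ u, ∃ x y : ι → F, u = ∑ i, (ex i (x i) + ey i (y i))
  indep : ∀ x y : ι → F, ∑ i, (ex i (x i) + ey i (y i)) = 0 → ∀ i, x i = 0 ∧ y i = 0
  perm : ∀ t ∈ (T : Subgroup P), ∀ i, ∃ j, cm t (A i) = A j ∧ cm t (grp i) = grp j
  trans : ∀ i j, ∃ t ∈ (T : Subgroup P), cm t (A i) = A j ∧ cm t (grp i) = grp j
  nonempty : Nonempty ι
  sup : (⨆ i, grp i) ⊔ (T : Subgroup P) = ⊤

end CfsgLib.RootBlocks
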