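import Cfsg.Agent.Lib.RootBlocks.Section
import Mathlib.GroupTheory.Perm.Cycle.Type

/-!
An offender makes the group faithful on one irreducible section and fixes everything off it, so the
splitting of the section is seen on the whole module.
-/

set_option autoImplicit false
set_option linter.unusedSectionVars false
set_option linter.style.haveILetI false

namespace CfsgLib.RootBlocks

open CfsgLib CfsgLib.RootCommute
open scoped Pointwise
open CfsgLib.SL2Pair (fix)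
open CfsgLib.StrongFusion (cm cm_cm cm_one cm_inv_cm cm_mono)

universe u v w

variable {P : Type u} [Group P] [Finite P] {W : Type v} [AddCommGroup W] [Finite W] {U : Type v} [AddCommGroup U]
  [Finite U] {p : ℕ} [hp : Fact p.Prime] {ρ : P →* AddMonoid.End W} {σ : P →* AddMonoid.End U}
  {T : Sylow p P} {M : Subgroup P}

variable (ρ σ) in
/-- A section. -/
structure Sect (W1 W2 : AddSubgroup W) (π : W2 →+ U) : Prop where
  inv1 : IsInv ρ W1
  inv2 : IsInv ρ W2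
  le : W1 ≤ W2
  surj : Function.Surjective π
  ker : ∀ x : W2, π x = 0 ↔ (x : W) ∈ W1
  act : ∀ (g : P) (x : W2), σ g (π x) = π ⟨ρ g x, inv2 g x x.2⟩

variable {W1 W2 : AddSubgroup W} {π : W2 →+ U}

namespace Sect

variable (s : Sect ρ σ W1 W2 π)
include s

theorem lift_fix {A : Subgroup P} {u : W2} (h : (u : W) ∈ fix ρ A) : π u ∈ fix σ A := fun a ha => by
  rw [s.act a u]
  exact congrArg π (Subtype.ext (h a ha))

theorem card_pre (X : AddSubgroup U) : Nat.card (X.comap π) = Nat.card W1 * Nat.card X := by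
  set g : X.comap π →+ X := (π.comp (X.comap π).subtype).codRestrict X (fun x => x.2)
  have h1 := g.ker.card_mul_index
  rw [AddSubgroup.index_ker, show g.range = ⊤ from eq_top_iff.2 fun x _ => by
    obtain ⟨y, hy⟩ := s.surj x
    exact ⟨⟨y, show π y ∈ X from hy.symm ▸ x.2⟩, Subtype.ext hy⟩, AddSubgroup.card_top] at h1
  rw [← h1]
  congr 1
  refine Nat.card_congr
    { toFun := fun x => ⟨((x : X.comap π) : W2), (s.ker _).1 (congrArg Subtype.val x.2 :)⟩
      invFun := fun x => ⟨⟨⟨x, s.le x.2⟩, show π _ ∈ X by rw [(s.ker _).2 x.2]; exact zero_mem X⟩,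
        Subtype.ext ((s.ker _).2 x.2)⟩
      left_inv := fun x => rfl
      right_inv := fun x => rfl }

theorem card_inf_le (A : Subgroup P) :
    Nat.card ↥(fix ρ A ⊓ W2) ≤ Nat.card ↥(fix ρ A ⊓ W1) * Nat.card (fix σ A) := by
  set g : ↥(fix ρ A ⊓ W2) →+ fix σ A :=
    AddMonoidHom.mk' (fun x => ⟨π ⟨x, x.2.2⟩, s.lift_fix x.2.1⟩) fun x y => Subtype.ext (map_add π ⟨x, x.2.2⟩ ⟨y, y.2.2⟩)
  have h1 := g.ker.card_mul_index
  rw [AddSubgroup.index_ker] at h1
  rw [← h1]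
  refine Nat.mul_le_mul (Nat.card_le_card_of_injective
    (fun x : g.ker => (⟨((x : ↥(fix ρ A ⊓ W2)) : W), (x : ↥(fix ρ A ⊓ W2)).2.1,
      (s.ker ⟨_, (x : ↥(fix ρ A ⊓ W2)).2.2⟩).1 (congrArg Subtype.val x.2 :)⟩ : ↥(fix ρ A ⊓ W1)))
    fun x y e => Subtype.ext (Subtype.ext (congrArg Subtype.val e :))) (Finite.card_subtype_le _)

theorem card_W2 : Nat.card W2 = Nat.card W1 * Nat.card U := by
  have h := s.card_pre ⊤
  rw [AddSubgroup.comap_top, AddSubgroup.card_top, AddSubgroup.card_top] at h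
  exact h

theorem offender {A : Subgroup P} (hA : Nat.card W ≤ mu ρ A) : Nat.card U ≤ Nat.card A * Nat.card (fix σ A) := by
  have h1 := card_inf_mul_card_sup (fix ρ A) W2
  have h2 := s.card_inf_le A
  have h3 : Nat.card ↥(fix ρ A ⊔ W2) ≤ Nat.card W := Finite.card_subtype_le _
  have h4 : Nat.card ↥(fix ρ A ⊓ W1) ≤ Nat.card W1 := AddSubgroup.card_le_of_le inf_le_right
  have h5 := s.card_W2
  have hpos : 0 < Nat.card W * Nat.card W1 := Nat.mul_pos Nat.card_pos Nat.card_pos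
  refine Nat.le_of_mul_le_mul_left (c := Nat.card W * Nat.card W1) ?_ hpos
  calc Nat.card W * Nat.card W1 * Nat.card U = Nat.card W * Nat.card W2 := by rw [h5, mul_assoc]
    _ ≤ mu ρ A * Nat.card W2 := Nat.mul_le_mul_right _ hA
    _ = Nat.card A * (Nat.card ↥(fix ρ A ⊓ W2) * Nat.card ↥(fix ρ A ⊔ W2)) := by rw [h1, mu, mul_assoc]
    _ ≤ Nat.card A * (Nat.card W1 * Nat.card (fix σ A) * Nat.card W) := by
        exact Nat.mul_le_mul_left _ (Nat.mul_le_mul (h2.trans (Nat.mul_le_mul_right _ h4)) h3)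
    _ = _ := by ring

/-- The edge: nothing is left off the section. -/
theorem edge {A : Subgroup P} (hA : Nat.card W ≤ mu ρ A) (hb : Nat.card A * Nat.card (fix σ A) ≤ Nat.card U) :
    W1 ≤ fix ρ A ∧ fix ρ A ⊔ W2 = ⊤ ∧ (∀ x : W2, π x ∈ fix σ A → (x : W) ∈ fix ρ A) ∧
      Nat.card U ≤ Nat.card A * Nat.card (fix σ A) := by
  have h1 := card_inf_mul_card_sup (fix ρ A) W2
  have h2 := s.card_inf_le A
  have h3 : Nat.card ↥(fix ρ A ⊔ W2) ≤ Nat.card W := Finite.card_subtype_le _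
  have h4 : Nat.card ↥(fix ρ A ⊓ W1) ≤ Nat.card W1 := AddSubgroup.card_le_of_le inf_le_right
  have h5 := s.card_W2
  have h6 := s.offender hA
  have hApos : 0 < Nat.card A := Nat.card_pos
  have hWpos : 0 < Nat.card W := Nat.card_pos
  have hfpos : 0 < Nat.card (fix σ A) := Nat.card_pos
  -- the product of the three bounds is attained
  have key : Nat.card W1 * Nat.card (fix σ A) * Nat.card W ≤
      Nat.card ↥(fix ρ A ⊓ W2) * Nat.card ↥(fix ρ A ⊔ W2) := by
    refine Nat.le_of_mul_le_mul_left (c := Nat.card A) ?_ hApos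
    calc Nat.card A * (Nat.card W1 * Nat.card (fix σ A) * Nat.card W)
        = Nat.card W1 * (Nat.card A * Nat.card (fix σ A)) * Nat.card W := by ring
      _ ≤ Nat.card W1 * Nat.card U * mu ρ A := Nat.mul_le_mul (Nat.mul_le_mul_left _ hb) hA
      _ = Nat.card A * (Nat.card ↥(fix ρ A ⊓ W2) * Nat.card ↥(fix ρ A ⊔ W2)) := by rw [← h5, h1, mu]; ring
  have e3 : Nat.card ↥(fix ρ A ⊔ W2) = Nat.card W := by
    refine le_antisymm h3 (Nat.le_of_mul_le_mul_left (c := Nat.card W1 * Nat.card (fix σ A)) ?_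
      (Nat.mul_pos Nat.card_pos hfpos))
    exact key.trans (Nat.mul_le_mul_right _ (h2.trans (Nat.mul_le_mul_right _ h4)))
  rw [e3] at key
  have key2 : Nat.card W1 * Nat.card (fix σ A) ≤ Nat.card ↥(fix ρ A ⊓ W2) := Nat.le_of_mul_le_mul_right key hWpos
  have e1 : fix ρ A ⊓ W1 = W1 := AddSubgroup.eq_of_le_of_card_ge inf_le_right
    (Nat.le_of_mul_le_mul_right (key2.trans h2) hfpos)
  refine ⟨e1 ▸ inf_le_left, AddSubgroup.eq_top_of_card_eq _ e3, fun x hx => ?_, h6⟩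
  have hle : (fix ρ A ⊓ W2).addSubgroupOf W2 ≤ (fix σ A).comap π := fun y hy => s.lift_fix hy.1
  have e2 := AddSubgroup.eq_of_le_of_card_ge hle (by
    rw [s.card_pre, Nat.card_congr (AddSubgroup.addSubgroupOfEquivOfLe inf_le_right).toEquiv]
    exact key2)
  exact (e2.ge hx : x ∈ (fix ρ A ⊓ W2).addSubgroupOf W2).1

theorem smul_U (h : Over ρ T M) (u : U) : p • u = 0 := by
  obtain ⟨x, rfl⟩ := s.surj u
  rw [← map_nsmul, show p • x = 0 from Subtype.ext (h.smul_zero x), map_zero]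

theorem hsub (hirr : ∀ X, IsInv ρ X → W1 ≤ X → X ≤ W2 → X = W1 ∨ X = W2) (X : AddSubgroup U) (hX : IsInv σ X) :
    X = ⊥ ∨ X = ⊤ := by
  rcases hirr ((X.comap π).map W2.subtype) (fun g x hx => by
      obtain ⟨y, hy, rfl⟩ := hx
      exact ⟨⟨ρ g y, s.inv2 g y y.2⟩, show π _ ∈ X from s.act g y ▸ hX g _ hy, rfl⟩)
    (fun x hx => ⟨⟨x, s.le hx⟩, show π _ ∈ X by rw [(s.ker _).2 hx]; exact zero_mem X, rfl⟩)
    (AddSubgroup.map_subtype_le _) with e | e
  · refine Or.inl ((AddSubgroup.eq_bot_iff_forall _).2 fun u hu => ?_)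
    obtain ⟨y, rfl⟩ := s.surj u
    exact (s.ker y).2 (e.le ⟨y, hu, rfl⟩)
  · refine Or.inr (eq_top_iff.2 fun u _ => ?_)
    obtain ⟨y, rfl⟩ := s.surj u
    obtain ⟨y', hy', hye⟩ := e.ge y.2
    rw [show y = y' from Subtype.ext hye.symm]; exact hy'

end Sect

/-- What an offender gives. -/
structure Frame (ρ : P →* AddMonoid.End W) (σ : P →* AddMonoid.End U) (T : Sylow p P) (W1 W2 : AddSubgroup W)
    (π : W2 →+ U) (N : Subgroup P) {ι : Type u} [Fintype ι] (D : Split σ T ι) : Prop where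
  sect : Sect ρ σ W1 W2 π
  no_fixed : ∀ x : U, (∀ g, σ g x = x) → x = 0
  inj : Function.Injective σ
  fix1 : ∀ g ∈ N, ∀ x ∈ W1, ρ g x = x
  disp : ∀ g ∈ N, ∀ x, ρ g x - x ∈ W2
  comp_le : (⨆ i, D.E i) ≤ N
  pre : ∀ g, ∀ B₀ ∈ D.mem, ∀ x : W2, π x ∈ fix σ (cm g B₀) → (x : W) ∈ fix ρ (cm g B₀)
  cover : ∀ g, ∀ B₀ ∈ D.mem, fix ρ (cm g B₀) ⊔ W2 = ⊤

/-- **One faithful section.** -/
theorem exists_frame (hsp : HasSplit.{u, v} p) (h : Over ρ T M) (hoff : HasOffender ρ T) :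
    ∃ (U : Type v) (_ : AddCommGroup U) (_ : Finite U) (σ : P →* AddMonoid.End U) (W1 W2 : AddSubgroup W)
      (π : W2 →+ U) (N : Subgroup P) (ι : Type u) (_ : Fintype ι) (D : Split σ T ι), Frame ρ σ T W1 W2 π N D := by
  classical
  obtain ⟨W1, W2, hi1, hi2, hle, hirr, g₀, x₀, hx₀, hmov⟩ := exists_section h
  obtain ⟨U, iU, iUf, σ, π, hπs, hπk, hact⟩ := exists_quotient hi1 hi2
  have s : Sect ρ σ W1 W2 π := ⟨hi1, hi2, hle, hπs, hπk, hact⟩
  obtain ⟨A, hAT, hAc, hAp, hA0, hAmu⟩ := hoff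
  have hU := s.smul_U h
  have hne : ∃ g x, σ g x ≠ x := ⟨g₀, π ⟨x₀, hx₀⟩, fun e => hmov (by
    rw [hact, ← sub_eq_zero, ← map_sub, hπk] at e
    exact e)⟩
  obtain ⟨hKM, hTK, hirr', Q, iQ, iQf, q, σ', T', M', hq, hqk, hσ', hT', hI⟩ := irr_quotient h (s.hsub hirr) hne hU
  -- the image of the offender
  set A' := A.map q with hA'
  have hqA : Nat.card A' = Nat.card A := by
    refine (Nat.card_eq_of_bijective (fun a : A => (⟨q a, a, a.2, rfl⟩ : A')) ⟨fun a b e => Subtype.ext ?_, ?_⟩).symm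
    · have h1 : q ((a : P)⁻¹ * b) = 1 := by
        rw [map_mul, map_inv, show q a = q b from congrArg Subtype.val e, inv_mul_cancel]
      have h2 : (a : P)⁻¹ * b ∈ (T : Subgroup P) ⊓ σ.ker :=
        Subgroup.mem_inf.2 ⟨(T : Subgroup P).mul_mem ((T : Subgroup P).inv_mem (hAT a.2)) (hAT b.2),
          hqk ▸ MonoidHom.mem_ker.2 h1⟩
      rw [hTK, Subgroup.mem_bot, inv_mul_eq_one] at h2
      exact h2
    · rintro ⟨_, a, ha, rfl⟩; exact ⟨⟨a, ha⟩, rfl⟩
  have hfixA : fix σ' A' = fix σ A := by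
    ext x
    exact ⟨fun hx a ha => by rw [← hσ']; exact hx _ ⟨a, ha, rfl⟩,
      fun hx b hb => by obtain ⟨a, ha, rfl⟩ := hb; rw [hσ']; exact hx a ha⟩
  have hA'T : A' ≤ (T' : Subgroup Q) := hT' ▸ Subgroup.map_mono hAT
  have hA'c : ∀ a ∈ A', ∀ c ∈ A', a * c = c * a := by
    rintro _ ⟨a, ha, rfl⟩ _ ⟨c, hc, rfl⟩
    rw [← map_mul, ← map_mul, hAc a ha c hc]
  have hA'p : ∀ a ∈ A', a ^ p = 1 := by
    rintro _ ⟨a, ha, rfl⟩
    rw [← map_pow, hAp a ha, map_one]
  obtain ⟨ι', iι', ⟨D'⟩⟩ := hsp Q U σ' T' M' hI ⟨A', hA'T, hA'c, hA'p, fun e => hA0 (by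
    rw [← Subgroup.card_eq_one, ← hqA, e, Subgroup.card_bot]), by
    rw [mu, hqA, hfixA]; exact s.offender hAmu⟩
  have hb : Nat.card A * Nat.card (fix σ A) ≤ Nat.card U := by
    have := (D'.bound A' hA'T hA'c hA'p).1
    rwa [mu, hqA, hfixA] at this
  obtain ⟨hW1, hcov, hpre, hge⟩ := s.edge hAmu hb
  -- the normal closure of the offender
  set N := Subgroup.normalClosure (A : Set P) with hN
  haveI hNn : N.Normal := Subgroup.normalClosure_normal
  let S : Subgroup P :=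
    { carrier := {g | (∀ x ∈ W1, ρ g x = x) ∧ ∀ x, ρ g x - x ∈ W2}
      one_mem' := ⟨fun x _ => act_one ρ x, fun x => by rw [act_one, sub_self]; exact zero_mem _⟩
      mul_mem' := fun {g k} hg hk => ⟨fun x hx => by rw [act_mul, hk.1 x hx, hg.1 x hx], fun x => by
        have := add_mem (hg.2 (ρ k x)) (hk.2 x); rwa [sub_add_sub_cancel, ← act_mul] at this⟩
      inv_mem' := fun {g} hg => ⟨fun x hx => inv_fixed ρ (hg.1 x hx), fun x => by
        have := hg.2 (ρ g⁻¹ x); rw [act_inv', ← neg_sub] at this; exact neg_mem_iff.1 this⟩ }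
  haveI hSn : S.Normal := ⟨fun g hg k => ⟨fun x hx => by
    rw [act_mul, act_mul, hg.1 _ (hi1 k⁻¹ x hx), act_inv'], fun x => by
      have := hi2 k _ (hg.2 (ρ k⁻¹ x))
      rwa [map_sub, act_inv', ← act_mul, ← act_mul] at this⟩⟩
  have hAS : A ≤ S := fun a ha => ⟨fun x hx => hW1 hx a ha, fun x => by
    obtain ⟨c, hc, w, hw, rfl⟩ := AddSubgroup.mem_sup.1 (hcov.ge (AddSubgroup.mem_top x))
    rw [map_add, hc a ha, add_sub_add_left_eq_sub]
    exact sub_mem (hi2 a w hw) hw⟩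
  have hNS : N ≤ S := Subgroup.normalClosure_le_normal hAS
  have hNM : ¬ N ≤ M := fun hle' => hA0 (eq_bot_iff.2 (h.inf_bot hNn hle' ▸
    le_inf hAT Subgroup.subset_normalClosure))
  -- the kernel
  have hKN : σ.ker ⊓ N = ⊥ := by
    refine h.no_core _ inferInstance fun ⟨g, hg1, hg2⟩ => ?_
    refine ⟨2, Subtype.ext ?_⟩
    show g ^ p ^ 2 = 1
    have h1 : ∀ y ∈ W2, ρ (g ^ p) y = y := pow_fix_step h.smul_zero (hNS hg2).1 fun y hy => by
      have e : σ g (π ⟨y, hy⟩) = π ⟨y, hy⟩ := by rw [MonoidHom.mem_ker.1 hg1]; rfl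
      rw [hact, ← sub_eq_zero, ← map_sub, hπk] at e
      exact e
    have h2 := pow_fix_step h.smul_zero h1 (Y := ⊤) (fun y _ => (S.pow_mem (hNS hg2) p).2 y)
    refine act_ext ρ h.inj fun x => ?_
    rw [pow_two, pow_mul, h2 x trivial, act_one]
  have hKle : σ.ker ≤ N := fun k hk => by
    have hcop : ¬ p ∣ orderOf k := fun hd => by
      obtain ⟨m, hm⟩ := hd
      have hm0 : 0 < m := Nat.pos_of_ne_zero fun e => by
        have := orderOf_pos k
        rw [hm, e, mul_zero] at this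
        exact lt_irrefl 0 this
      have hx : orderOf (k ^ m) = p := by
        rw [orderOf_pow' k hm0.ne', hm, Nat.gcd_mul_left_left, Nat.mul_div_cancel _ hm0]
      have hxp : IsPGroup p (Subgroup.zpowers (k ^ m)) :=
        IsPGroup.of_card (n := 1) (by rw [Nat.card_zpowers, hx, pow_one])
      obtain ⟨T₁, hT₁⟩ := hxp.exists_le_sylow
      obtain ⟨y, rfl⟩ := MulAction.exists_smul_eq P T T₁
      have h2 : k ^ m ∈ MulAut.conj y • (T : Subgroup P) := by
        rw [← Sylow.coe_subgroup_smul]; exact hT₁ (Subgroup.mem_zpowers _)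
      obtain ⟨t, ht, hte⟩ := h2
      have hte' : y * t * y⁻¹ = k ^ m := hte
      have h3 : t ∈ (T : Subgroup P) ⊓ σ.ker := ⟨ht, by
        have := σ.normal_ker.conj_mem _ (pow_mem hk m) y⁻¹
        rwa [← hte', show y⁻¹ * (y * t * y⁻¹) * y⁻¹⁻¹ = t by group] at this⟩
      rw [hTK, Subgroup.mem_bot] at h3
      rw [← hte', h3, mul_one, mul_inv_cancel, orderOf_one] at hx
      exact hp.out.one_lt.ne hx
    obtain ⟨c, hc⟩ := IsPGroup.iff_card.1 T.2
    have hidx : N.index ∣ p ^ c := by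
      rw [← hc, ← Subgroup.relIndex_top_right N, ← h.sup_top hNM, Subgroup.relIndex_sup_left]
      exact Subgroup.relIndex_dvd_card N (T : Subgroup P)
    have h1 : k ^ N.index ∈ N := Subgroup.pow_index_mem N k
    have hco : Nat.Coprime N.index (orderOf k) :=
      Nat.Coprime.coprime_dvd_left hidx ((hp.out.coprime_iff_not_dvd.2 hcop).pow_left c)
    obtain ⟨m, hm⟩ := exists_pow_eq_self_of_coprime hco
    exact hm ▸ N.pow_mem h1 m
  have hinj : Function.Injective σ := by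
    rw [← MonoidHom.ker_eq_bot_iff, ← hKN, inf_eq_left.2 hKle]
  have hI' := hirr' hinj
  obtain ⟨ι, iι, ⟨D⟩⟩ := hsp P U σ T M hI' ⟨A, hAT, hAc, hAp, hA0, hge⟩
  have hAgen := (D.bound A hAT hAc hAp).2 hge
  obtain ⟨B₁, hB₁A, hB₁⟩ : ∃ B, B ≤ A ∧ B ∈ D.mem := by
    by_contra hno
    exact hA0 (eq_bot_iff.2 (hAgen.trans (sSup_le fun B hB => absurd ⟨B, hB⟩ hno)))
  have hmemN : ∀ B₀ ∈ D.mem, ∀ g, cm g B₀ ≤ N := fun B₀ hB₀ g => by
    obtain ⟨k, rfl⟩ := D.mem_conj B₁ hB₁ B₀ hB₀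
    rw [cm_cm]
    rintro _ ⟨b, hb, rfl⟩
    exact hNn.conj_mem b (Subgroup.subset_normalClosure (hB₁A hb)) _
  have hcomp : (⨆ i, D.E i) ≤ N := iSup_le fun i => by
    obtain ⟨t, ht, hE, -⟩ := D.gens i
    rw [hE]
    exact Finset.sup_le fun B hB => by
      obtain ⟨g, B₀, hB₀, rfl⟩ := ht B hB
      exact hmemN B₀ hB₀ g
  -- one member inside the offender, then its conjugates
  have hbase : (∀ x : W2, π x ∈ fix σ B₁ → (x : W) ∈ fix ρ B₁) := by
    let Z : AddSubgroup U :=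
      { carrier := {u | ∀ x : W2, π x = u → ∀ b ∈ B₁, ρ b x = x}
        zero_mem' := fun x hx b hb => (hNS (hmemN B₁ hB₁ 1 (by rwa [cm_one]))).1 _ ((hπk x).1 hx)
        add_mem' := fun {u u'} hu hu' x hx b hb => by
          obtain ⟨y, hy⟩ := hπs u
          have h1 := hu y hy b hb
          have h2 := hu' (x - y) (by rw [map_sub, hx, hy, add_sub_cancel_left]) b hb
          rw [show (x : W) = y + ((x - y : W2) : W) by rw [AddSubgroup.coe_sub]; abel, map_add, h1, h2]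
        neg_mem' := fun {u} hu x hx b hb => by
          have h1 := hu (-x) (by rw [map_neg, hx, neg_neg]) b hb
          rw [AddSubgroup.coe_neg, map_neg] at h1
          exact neg_injective h1 }
    have hfix : fix σ B₁ ≤ Z := by
      refine (D.span B₁ hB₁).trans (sup_le (iSup₂_le fun B' hB' u hu x hx b hb => ?_)
        ((AddSubgroup.closure_le _).2 ?_))
      · refine hpre x (fun a ha => ?_) b (hB₁A hb)
        rw [hx]
        have h1 : sSup {B | B ≤ A ∧ B ∈ D.mem} ≤ pointStab σ u :=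
          sSup_le fun B hB c hc => D.quad B' hB' B hB.2 hu c hc
        exact h1 (hAgen ha)
      · rintro _ ⟨g, hg, hgc, u, hu, rfl⟩ x hx b hb
        obtain ⟨y, rfl⟩ := hπs u
        have hbN := hNS (hmemN B₁ hB₁ 1 (by rw [cm_one]; exact hb))
        set e := ρ b (y : W) - y with he
        have he1 : e ∈ W1 := by
          refine (hπk (⟨ρ b y, hi2 b y y.2⟩ - y)).1 ?_
          rw [map_sub, ← hact, hu b hb, sub_self]
        have hgN := hNS (hcomp hg)
        have hd : ((⟨ρ g y, hi2 g y y.2⟩ - y : W2) : W) = ρ g (y : W) - y := rfl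
        have h3 : π (x - (⟨ρ g y, hi2 g y y.2⟩ - y)) = 0 := by rw [map_sub, map_sub, ← hact, hx, sub_self]
        have h4 := hbN.1 _ ((hπk _).1 h3)
        rw [AddSubgroup.coe_sub, hd, map_sub, map_sub] at h4
        have h5 : ρ b (ρ g (y : W)) = ρ g (y : W) + e := by
          rw [← act_mul, ← hgc b hb, act_mul, show ρ b (y : W) = y + e by rw [he]; abel, map_add, hgN.1 e he1]
        rw [h5, show ρ b (y : W) = y + e by rw [he]; abel] at h4
        calc ρ b (x : W) = (ρ b (x : W) - (ρ g ↑y + e - (↑y + e))) + (ρ g (y : W) - y) := by abel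
          _ = x := by rw [h4]; abel
    exact fun x hx b hb => hfix hx x rfl b hb
  refine ⟨U, iU, iUf, σ, W1, W2, π, N, ι, iι, D, ⟨s, hI'.no_fixed, hinj, fun g hg => (hNS hg).1, fun g hg => (hNS hg).2,
    hcomp, fun g B₀ hB₀ x hx => ?_, fun g B₀ hB₀ => ?_⟩⟩
  · obtain ⟨k, rfl⟩ := D.mem_conj B₁ hB₁ B₀ hB₀
    rw [cm_cm] at hx ⊢
    rw [mem_fix_cm] at hx ⊢
    rw [hact] at hx
    exact hbase _ hx
  · obtain ⟨k, rfl⟩ := D.mem_conj B₁ hB₁ B₀ hB₀
    rw [cm_cm, eq_top_iff]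
    intro x _
    obtain ⟨c, hc, w, hw, e⟩ := AddSubgroup.mem_sup.1 (hcov.ge (AddSubgroup.mem_top (ρ (g * k)⁻¹ x)))
    refine AddSubgroup.mem_sup.2 ⟨ρ (g * k) c, (mem_fix_cm ρ).2 ?_, ρ (g * k) w, hi2 _ w hw, ?_⟩
    · rw [act_inv]; exact fix_antitone ρ hB₁A hc
    · rw [← map_add, e, act_inv']

variable {N : Subgroup P} {ι : Type u} [Fintype ι] {D : Split σ T ι}

namespace Frame

variable (f : Frame ρ σ T W1 W2 π N D)
include f

theorem img_le (i : ι) : img ρ (D.E i) ≤ W2 := (RootCommute.img_le ρ).2 fun g hg =>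
  f.disp g (f.comp_le (le_iSup D.E i hg))

theorem pre_comp (i : ι) (x : W2) (hx : π x ∈ fix σ (D.E i)) : (x : W) ∈ fix ρ (D.E i) := by
  obtain ⟨t, ht, hE, -⟩ := D.gens i
  have h1 : D.E i ≤ pointStab ρ (x : W) := by
    rw [hE]
    refine Finset.sup_le fun B hB => ?_
    obtain ⟨g, B₀, hB₀, hB'⟩ := ht B hB
    have hle : B ≤ D.E i := hE ▸ Finset.le_sup (f := id) hB
    subst hB'
    exact fun b hb => f.pre g B₀ hB₀ x (fix_antitone σ hle hx) b hb
  exact fun g hg => h1 hg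

theorem card_fix_conj (g : P) {B₀ : Subgroup P} (hB₀ : B₀ ∈ D.mem) :
    Nat.card W = Nat.card ↥(cm g B₀) * Nat.card (fix ρ (cm g B₀)) := by
  have hcard : Nat.card ↥(cm g B₀) = Nat.card B₀ := Subgroup.card_map_of_injective (MulAut.conj g).injective
  have hU : Nat.card U = Nat.card ↥(cm g B₀) * Nat.card (fix σ (cm g B₀)) := by
    rw [hcard, card_fix_cm]; exact D.idx B₀ hB₀
  have h1 := card_inf_mul_card_sup (fix ρ (cm g B₀)) W2
  rw [f.cover g B₀ hB₀, AddSubgroup.card_top] at h1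
  have h2 : Nat.card ↥(fix ρ (cm g B₀) ⊓ W2) = Nat.card W1 * Nat.card (fix σ (cm g B₀)) := by
    rw [← f.sect.card_pre, ← Nat.card_congr (AddSubgroup.addSubgroupOfEquivOfLe
      (inf_le_right : fix ρ (cm g B₀) ⊓ W2 ≤ W2)).toEquiv]
    congr 2
    ext x
    exact ⟨fun hx => f.sect.lift_fix hx.1, fun hx => ⟨f.pre g B₀ hB₀ x hx, x.2⟩⟩
  rw [h2, f.sect.card_W2, hU] at h1
  refine Nat.eq_of_mul_eq_mul_left (Nat.mul_pos (Nat.card_pos (α := W1))
    (Nat.card_pos (α := fix σ (cm g B₀)))) ?_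
  linear_combination h1

theorem cover_comp (i : ι) : fix ρ (D.E i) ⊔ W2 = ⊤ := by
  classical
  obtain ⟨t, ht, hE, hcard⟩ := D.gens i
  set C := fix ρ (D.E i)
  have hidx : C.index ≤ ∏ B ∈ t, Nat.card B := by
    have hC : C = ⨅ B : t, fix ρ (B : Subgroup P) := by
      ext x
      rw [AddSubgroup.mem_iInf]
      refine ⟨fun hx B => fix_antitone ρ (hE ▸ Finset.le_sup (f := id) B.2) hx, fun hx g hg => ?_⟩
      have h1 : D.E i ≤ pointStab ρ x := hE ▸ Finset.sup_le fun B hB b hb => hx ⟨B, hB⟩ b hb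
      exact h1 hg
    rw [hC, ← Finset.prod_coe_sort]
    refine (AddSubgroup.index_iInf_le _).trans (Finset.prod_le_prod' fun B _ => le_of_eq ?_)
    obtain ⟨g, B₀, hB₀, hB'⟩ := ht B B.2
    rw [← hB']
    have h1 := (fix ρ (cm g B₀)).card_mul_index
    rw [f.card_fix_conj g hB₀, mul_comm (Nat.card ↥(cm g B₀))] at h1
    exact Nat.eq_of_mul_eq_mul_left Nat.card_pos h1
  have h1 := card_inf_mul_card_sup C W2
  have h2 : Nat.card ↥(C ⊓ W2) ≤ Nat.card W1 * Nat.card (fix σ (D.E i)) :=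
    (f.sect.card_inf_le _).trans (Nat.mul_le_mul_right _ (AddSubgroup.card_le_of_le inf_le_right))
  have hprod : 0 < ∏ B ∈ t, Nat.card B := Finset.prod_pos fun B _ => Nat.card_pos
  refine AddSubgroup.eq_top_of_le_card _ ?_
  refine Nat.le_of_mul_le_mul_left (c := Nat.card ↥(C ⊓ W2)) ?_ Nat.card_pos
  rw [h1, ← C.card_mul_index]
  calc Nat.card ↥(C ⊓ W2) * (Nat.card C * C.index)
      ≤ Nat.card W1 * Nat.card (fix σ (D.E i)) * (Nat.card C * ∏ B ∈ t, Nat.card B) :=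
        Nat.mul_le_mul h2 (Nat.mul_le_mul_left _ hidx)
    _ = Nat.card C * (Nat.card W1 * (Nat.card (fix σ (D.E i)) * ∏ B ∈ t, Nat.card B)) := by ring
    _ ≤ Nat.card C * Nat.card W2 := by
        rw [f.sect.card_W2]; exact Nat.mul_le_mul_left _ (Nat.mul_le_mul_left _ hcard)

theorem img_comp (i : ι) {u : U} (hu : u ∈ img σ (D.E i)) : ∃ x : W2, (x : W) ∈ img ρ (D.E i) ∧ π x = u := by
  have h1 : img σ (D.E i) ≤ ((img ρ (D.E i)).addSubgroupOf W2).map π := by
    refine (RootCommute.img_le σ).2 fun g hg v => ?_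
    obtain ⟨y, rfl⟩ := f.sect.surj v
    exact ⟨⟨ρ g y, f.sect.inv2 g y y.2⟩ - y, sub_mem_img ρ hg (y : W), by rw [map_sub, ← f.sect.act]⟩
  obtain ⟨x, hx, hxu⟩ := h1 hu
  exact ⟨x, hx, hxu⟩

theorem img_π (i : ι) {x : W} (hx : x ∈ img ρ (D.E i)) : π ⟨x, f.img_le i hx⟩ ∈ img σ (D.E i) := by
  have hle : img ρ (D.E i) ≤ ((img σ (D.E i)).comap π).map W2.subtype := by
    refine (RootCommute.img_le ρ).2 fun g hg v => ?_
    obtain ⟨c, hc, w, hw, rfl⟩ := AddSubgroup.mem_sup.1 ((f.cover_comp i).ge (AddSubgroup.mem_top v))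
    refine ⟨⟨ρ g w, f.sect.inv2 g w hw⟩ - ⟨w, hw⟩, ?_, ?_⟩
    · show π _ ∈ img σ (D.E i)
      rw [map_sub, ← f.sect.act g ⟨w, hw⟩]; exact sub_mem_img σ hg _
    · rw [map_add, hc g hg, add_sub_add_left_eq_sub]; rfl
  obtain ⟨y, hy, hyx⟩ := hle hx
  rw [show (⟨x, f.img_le i hx⟩ : W2) = y from Subtype.ext hyx.symm]
  exact hy

theorem section_comp (i : ι) : IsSectionComponent p ρ (D.E i) := by
  let π' : ↥(img ρ (D.E i)) →+ U := π.comp (AddSubgroup.inclusion (f.img_le i))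
  obtain ⟨n, hn, h⟩ := D.natural i
  have hall : ∀ {Y : Type} [AddCommGroup Y] (ψ : U →+ Y), (∀ u ∈ fix σ (D.E i), ψ u = 0) → ∀ u,
      ∃ x : ↥(img ρ (D.E i)), ψ (π' x) = ψ u := by
    intro Y _ ψ hψ u
    have h1 : (⊤ : AddSubgroup U) ≤ ((ψ.comp π').range).comap ψ := by
      rw [← D.span_top]
      refine iSup_le fun j v hv => ?_
      by_cases hji : j = i
      · subst hji
        obtain ⟨x, hx, rfl⟩ := f.img_comp j hv
        exact ⟨⟨x, hx⟩, rfl⟩
      · exact ⟨0, by rw [map_zero, hψ v (D.other j i hji hv)]⟩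
    exact h1 (AddSubgroup.mem_top u)
  have hker : ∀ x : ↥(img ρ (D.E i)), π' x ∈ fix σ (D.E i) ↔ (x : W) ∈ fix ρ (D.E i) := fun x =>
    ⟨f.pre_comp i _, fun hx => f.sect.lift_fix (u := ⟨x, f.img_le i x.2⟩) hx⟩
  have hequiv : ∀ (g : ↥(D.E i)) (x y : ↥(img ρ (D.E i))), (y : W) = ρ (g : P) (x : W) →
      π' y = σ (g : P) (π' x) := fun g x y h => by
    show π _ = σ (g : P) (π _)
    rw [f.sect.act]
    exact congrArg π (Subtype.ext h)
  refine ⟨n, hn, ?_⟩
  rcases h with ⟨F, iF, iF', e, ψ, hcard, hs, hk, he⟩ | ⟨hp2, e, ψ, hsum, hs, hk, he⟩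
  · refine Or.inl ⟨F, iF, iF', e, ψ.comp π', hcard, fun y => ?_, fun x => (hk _).trans (hker x),
      fun g x y h => ?_⟩
    · obtain ⟨u, rfl⟩ := hs y
      exact hall ψ (fun v hv => (hk v).2 hv) u
    · show ψ (π' y) = _
      rw [hequiv g x y h, he]; rfl
  · refine Or.inr ⟨hp2, e, ψ.comp π', fun x => hsum _, fun w hw => ?_, fun x => (hk _).trans (hker x),
      fun g x y k h => ?_⟩
    · obtain ⟨u, rfl⟩ := hs w hw
      exact hall ψ (fun v hv => (hk v).2 hv) u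
    · show ψ (π' y) k = _
      rw [hequiv g x y h, he]; rfl

theorem inf_others (i : ι) : D.E i ⊓ (⨆ j ∈ {j | j ≠ i}, D.E j) = ⊥ := by
  refine (Subgroup.eq_bot_iff_forall _).2 fun g hg => f.inj (AddMonoidHom.ext fun u => ?_)
  rw [map_one]
  have h1 : (⊤ : AddSubgroup U) ≤ fix σ (Subgroup.zpowers g) := by
    rw [← D.span_top]
    refine iSup_le fun j v hv k hk => ?_
    have hle : Subgroup.zpowers g ≤ pointStab σ v := Subgroup.zpowers_le.2 (by
      by_cases hji : j = i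
      · subst hji
        have h2 : (⨆ k ∈ {k | k ≠ j}, D.E k) ≤ pointStab σ v :=
          iSup₂_le fun k hk' c hc => D.other j k (Ne.symm hk') hv c hc
        exact h2 hg.2
      · exact D.other j i hji hv g hg.1)
    exact hle hk
  exact h1 (AddSubgroup.mem_top u) g (Subgroup.mem_zpowers g)

theorem sum_top : fix ρ (⨆ i, D.E i) ⊔ (⨆ i, img ρ (D.E i)) = ⊤ := by
  classical
  refine eq_top_iff.2 fun v _ => ?_
  have hw : ∀ i, ∃ w : W2, v - w ∈ fix ρ (D.E i) := fun i => by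
    obtain ⟨c, hc, w, hw, rfl⟩ := AddSubgroup.mem_sup.1 ((f.cover_comp i).ge (AddSubgroup.mem_top v))
    exact ⟨⟨w, hw⟩, by rw [show c + w - ((⟨w, hw⟩ : W2) : W) = c from add_sub_cancel_right c w]; exact hc⟩
  choose w hw using hw
  have hdec : ∀ u : U, ∃ y : ι → U, (∀ i, y i ∈ img σ (D.E i)) ∧ u = ∑ i, y i := fun u => by
    have h : (⊤ : AddSubgroup U) ≤ ⨆ i, img σ (D.E i) := D.span_top.ge
    refine AddSubgroup.iSup_induction (fun i => img σ (D.E i))
      (C := fun u => ∃ y : ι → U, (∀ i, y i ∈ img σ (D.E i)) ∧ u = ∑ i, y i) (h (AddSubgroup.mem_top u)) ?_ ?_ ?_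
    · intro i x hx
      refine ⟨fun j => if j = i then x else 0, fun j => ?_, by simp⟩
      by_cases hji : j = i
      · subst hji; simpa using hx
      · simp [hji]
    · exact ⟨fun _ => 0, fun i => zero_mem _, by simp⟩
    · rintro a b ⟨y, hy, rfl⟩ ⟨z, hz, rfl⟩
      exact ⟨y + z, fun i => add_mem (hy i) (hz i), by simp [Finset.sum_add_distrib]⟩
  choose y hy hysum using fun i => hdec (π (w i))
  choose x hx hxπ using fun i => f.img_comp i (hy i i)
  set z : W := ∑ i, (x i : W) with hz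
  refine AddSubgroup.mem_sup.2 ⟨v - z, fun g hg => ?_, z,
    AddSubgroup.sum_mem _ fun i _ => le_iSup (fun i => img ρ (D.E i)) i (hx i), sub_add_cancel v z⟩
  have h1 : (⨆ i, D.E i) ≤ pointStab ρ (v - z) := iSup_le fun i k hk => by
    have h2 : π (∑ j, x j - w i) ∈ fix σ (D.E i) := by
      have h3 : ∀ j, j ≠ i → ∀ u ∈ img σ (D.E j), u ∈ fix σ (D.E i) := fun j hj u hu => D.other j i hj hu
      rw [map_sub, map_sum, hysum i, ← Finset.sum_sub_distrib]
      refine sum_mem fun j _ => ?_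
      by_cases hji : j = i
      · rw [hji, hxπ, sub_self]; exact zero_mem _
      · exact sub_mem (h3 j hji _ (hxπ j ▸ hy j j)) (h3 j hji _ (hy i j))
    have h4 := f.pre_comp i _ h2
    rw [AddSubgroup.coe_sub, AddSubgroup.val_finsetSum] at h4
    have h5 := sub_mem (hw i) h4
    rw [show v - (w i : W) - (∑ j, (x j : W) - (w i : W)) = v - z by rw [hz]; abel] at h5
    exact h5 k hk
  exact h1 hg

theorem other_comp {i j : ι} (h : i ≠ j) : img ρ (D.E i) ≤ fix ρ (D.E j) := fun _ hx =>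
  f.pre_comp j ⟨_, f.img_le i hx⟩ (D.other i j h (f.img_π i hx))

/-- The fixed points of the Sylow subgroup are moved. -/
theorem moved : ∃ z ∈ fix ρ (T : Subgroup P), ∃ g, ρ g z ≠ z := by
  classical
  obtain ⟨i₀⟩ := D.nonempty
  obtain ⟨B₀, hB₀⟩ : ∃ B, B ∈ D.mem := by
    by_contra hno
    push Not at hno
    have hbot : (⨆ i, D.E i) = ⊥ := eq_bot_iff.2 (iSup_le fun i => by
      obtain ⟨t, ht, hE, -⟩ := D.gens i
      rw [hE]
      exact Finset.sup_le fun B hB => by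
        obtain ⟨g, B, hB', -⟩ := ht B hB
        exact absurd hB' (hno B))
    obtain ⟨n, hn, hnat⟩ := D.natural i₀
    have hEb : D.E i₀ = ⊥ := eq_bot_iff.2 (hbot ▸ le_iSup D.E i₀)
    have h1 : Nat.card ↥(D.E i₀) = 1 := by rw [hEb, Subgroup.card_bot]
    haveI : Subsingleton ↥(D.E i₀) := (Nat.card_eq_one_iff_unique.1 h1).1
    rcases hnat with ⟨F, iF, iF', e, -⟩ | ⟨-, e, -⟩
    · haveI := e.symm.toEquiv.subsingleton
      have h2 := congrArg (fun g : Matrix.SpecialLinearGroup (Fin 2) F => g.1 0 1)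
        (Subsingleton.elim (α := Matrix.SpecialLinearGroup (Fin 2) F) ⟨!![1, 1; 0, 1], by simp [Matrix.det_fin_two]⟩ 1)
      simp at h2
    · haveI := e.symm.toEquiv.subsingleton
      haveI : Nontrivial (Fin (2 ^ n + 1)) := Fin.nontrivial_iff_two_le.2 (by
        have := Nat.one_le_two_pow (n := n); omega)
      exact not_subsingleton (Equiv.Perm (Fin (2 ^ n + 1))) ‹_›
  have hBT := D.mem_le B₀ hB₀
  let S : Subgroup P := (T : Subgroup P) ⊓ Subgroup.normalizer (B₀ : Set P)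
  have hSB : ∀ t ∈ S, cm t B₀ = B₀ := fun t ht => Local.map_conj_eq_of_mem_normalizer ht.2
  -- an element of the member fixed by its stabiliser
  let act : MulAction ↥S ↥B₀ := MulAction.compHom _
    ((B₀.normalizerMonoidHom).comp (Subgroup.inclusion (inf_le_right : S ≤ Subgroup.normalizer (B₀ : Set P))))
  obtain ⟨b, hb1, hbfix⟩ : ∃ b : ↥B₀, b ≠ 1 ∧ ∀ t : ↥S, (t : P) * b * (t : P)⁻¹ = b := by
    letI := act
    have hS : IsPGroup p ↥S := T.2.to_le inf_le_left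
    have hdvd : p ∣ Nat.card ↥B₀ := by
      obtain ⟨k, hk⟩ := IsPGroup.iff_card.1 (T.2.to_le hBT : IsPGroup p B₀)
      rw [hk]
      refine dvd_pow_self p fun e => D.mem_ne B₀ hB₀ ?_
      exact Subgroup.eq_bot_of_card_eq _ (by rw [hk, e, pow_zero])
    have hone : (1 : ↥B₀) ∈ MulAction.fixedPoints ↥S ↥B₀ := fun t => by
      refine Subtype.ext ?_
      show (t : P) * 1 * (t : P)⁻¹ = 1
      rw [mul_one, mul_inv_cancel]
    obtain ⟨b, hb, hne⟩ := hS.exists_fixed_point_of_prime_dvd_card_of_fixed_point ↥B₀ hdvd hone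
    exact ⟨b, Ne.symm hne, fun t => congrArg Subtype.val (hb t)⟩
  have hb1' : (b : P) ≠ 1 := fun e => hb1 (Subtype.ext e)
  have hfixb : ∀ {u : U}, σ (b : P) u = u → u ∈ fix σ B₀ := fun {u} hu => D.ker B₀ hB₀ b b.2 hb1' u hu
  let I : AddSubgroup U := (AddMonoidHom.mk' (fun u => σ (b : P) u - u) fun x y => by rw [map_add]; abel).range
  have hI : I ≠ ⊥ := fun e => hb1' (f.inj (AddMonoidHom.ext fun u => by
    rw [map_one]
    exact sub_eq_zero.1 ((AddSubgroup.eq_bot_iff_forall I).1 e _ ⟨u, rfl⟩)))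
  have hpU : ∀ u : U, p • u = 0 := fun u => by
    obtain ⟨g, hg⟩ : ∃ g : U →+ U, ∀ x, g x = p • x := ⟨nsmulAddMonoidHom p, fun x => rfl⟩
    have hfixall : ∀ i, ∀ x, p • x ∈ fix σ (D.E i) := fun i x => by
      obtain ⟨n, hn, ⟨F, iF, iF', e, ψ, hcard, -, hk, -⟩ | ⟨hp2, e, ψ, -, -, hk, -⟩⟩ := D.natural i
      · refine (hk _).1 ?_
        rw [map_nsmul]
        have hc : (p : F) = 0 := by
          have h0 : ((Fintype.card F : ℕ) : F) = 0 := FiniteField.cast_card_eq_zero F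
          rw [hcard, Nat.cast_pow] at h0
          exact pow_eq_zero_iff (by omega) |>.1 h0
        ext j
        rw [Pi.smul_apply, nsmul_eq_mul, hc, zero_mul, Pi.zero_apply]
      · refine (hk _).1 ?_
        rw [map_nsmul]
        ext j
        rw [Pi.smul_apply, hp2, two_nsmul]
        exact CharTwo.add_self_eq_zero _
    have h1 : (⨆ i, D.E i) ≤ pointStab σ (p • u) := iSup_le fun i k hk => hfixall i u k hk
    have h2 : p • u ∈ fix σ (⨆ i, D.E i) := fun k hk => h1 hk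
    rwa [D.fix_bot, AddSubgroup.mem_bot] at h2
  obtain ⟨_, ⟨u, rfl⟩, hy0, hyS⟩ := exists_fix σ hpU (E := S) (T.2.to_le inf_le_left) (W := I) (fun t ht y hy => by
      obtain ⟨u, rfl⟩ := hy
      refine ⟨σ t u, ?_⟩
      show σ (b : P) (σ t u) - σ t u = σ t (σ (b : P) u - u)
      have := hbfix ⟨t, ht⟩
      rw [mul_inv_eq_iff_eq_mul] at this
      rw [map_sub, ← act_mul, ← act_mul, this]) hI
  obtain ⟨v, rfl⟩ := f.sect.surj u
  set z₀ : W := ρ (b : P) (v : W) - v with hz₀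
  have hb_conj : ∀ t ∈ S, ∀ x : W, ρ t (ρ (b : P) x) = ρ (b : P) (ρ t x) := fun t ht x => by
    have := hbfix ⟨t, ht⟩
    rw [mul_inv_eq_iff_eq_mul] at this
    rw [← act_mul, ← act_mul, this]
  have hz₀S : ∀ t ∈ S, ρ t z₀ = z₀ := fun t ht => by
    have hyt := hyS t ht
    have h1 : σ (b : P) (σ t (π v) - π v) = σ t (π v) - π v := by
      have hyt' : σ t (σ (b : P) (π v) - π v) = σ (b : P) (π v) - π v := hyt
      have hbt : σ (b : P) (σ t (π v)) = σ t (σ (b : P) (π v)) := by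
        have := hbfix ⟨t, ht⟩
        rw [mul_inv_eq_iff_eq_mul] at this
        rw [← act_mul, ← act_mul, this]
      rw [map_sub] at hyt' ⊢
      rw [hbt, ← sub_eq_zero]
      rw [← sub_eq_zero] at hyt'
      rw [← hyt']
      abel
    have h2 : π (⟨ρ t v, f.sect.inv2 t v v.2⟩ - v) ∈ fix σ (cm 1 B₀) := by
      rw [cm_one, map_sub, ← f.sect.act]; exact hfixb h1
    have h3 := f.pre 1 B₀ hB₀ _ h2
    rw [cm_one] at h3
    have h4 : ρ (b : P) (ρ t (v : W) - v) = ρ t (v : W) - v := h3 _ b.2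
    rw [hz₀, map_sub, hb_conj t ht]
    rw [map_sub] at h4
    rw [← sub_eq_zero] at h4 ⊢
    rw [← h4]
    abel
  -- the orbit sum
  haveI : Fintype (↥(T : Subgroup P) ⧸ S.subgroupOf (T : Subgroup P)) := Fintype.ofFinite _
  let out : ↥(T : Subgroup P) ⧸ S.subgroupOf (T : Subgroup P) → P := fun q => ((q.out : ↥(T : Subgroup P)) : P)
  have hfun : ∀ (q : ↥(T : Subgroup P) ⧸ S.subgroupOf (T : Subgroup P)) (t : ↥(T : Subgroup P)),
      ρ (t : P) (ρ (out q) z₀) = ρ (out (t • q)) z₀ := fun q t => by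
    have h1 : ((t • q).out)⁻¹ * (t * q.out) ∈ S.subgroupOf (T : Subgroup P) := by
      refine QuotientGroup.eq.1 ?_
      rw [QuotientGroup.out_eq']
      conv_lhs => rw [← QuotientGroup.out_eq' q]
      rfl
    have h2 := hz₀S _ h1
    calc ρ (t : P) (ρ (out q) z₀) = ρ ((t : P) * out q) z₀ := (act_mul ρ _ _ _).symm
      _ = ρ (out (t • q)) (ρ (((((t • q).out)⁻¹ * (t * q.out) : ↥(T : Subgroup P))) : P) z₀) := by
          rw [← act_mul]; congr 2
          simp [out, Subgroup.coe_mul, mul_assoc]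
      _ = _ := congrArg (ρ (out (t • q))) h2
  set z := ∑ q, ρ (out q) z₀ with hz
  have hzT : z ∈ fix ρ (T : Subgroup P) := fun t ht => by
    rw [hz, map_sum, Finset.sum_congr rfl fun q _ => hfun q ⟨t, ht⟩]
    exact Fintype.sum_bijective _ (MulAction.bijective (⟨t, ht⟩ : ↥(T : Subgroup P))) _ _ fun q => rfl
  refine ⟨z, hzT, ?_⟩
  by_contra hall
  push Not at hall
  have hz₀W : z₀ ∈ W2 := sub_mem (f.sect.inv2 _ v v.2) v.2
  have hzW : z ∈ W2 := sum_mem fun q _ => f.sect.inv2 _ z₀ hz₀W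
  have h0 : π ⟨z, hzW⟩ = 0 := f.no_fixed _ fun g => by
    rw [f.sect.act]
    exact congrArg π (Subtype.ext (hall g))
  have hsum : π ⟨z, hzW⟩ = ∑ q, σ (out q) (π ⟨z₀, hz₀W⟩) := by
    rw [Finset.sum_congr rfl fun q _ => f.sect.act (out q) ⟨z₀, hz₀W⟩, ← map_sum]
    exact congrArg π (Subtype.ext (by rw [AddSubgroup.val_finsetSum]))
  have hy : π ⟨z₀, hz₀W⟩ = σ (b : P) (π v) - π v := by
    rw [f.sect.act, ← map_sub]; rfl
  set q₀ : ↥(T : Subgroup P) ⧸ S.subgroupOf (T : Subgroup P) := QuotientGroup.mk 1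
  have hq₀ : out q₀ ∈ S := by
    have h1 : (q₀.out)⁻¹ * 1 ∈ S.subgroupOf (T : Subgroup P) :=
      QuotientGroup.eq.1 (QuotientGroup.out_eq' q₀)
    rw [mul_one] at h1
    have := S.inv_mem h1
    rwa [map_inv, inv_inv] at this
  have hyS' : σ (out q₀) (σ (b : P) (π v) - π v) = σ (b : P) (π v) - π v := hyS _ hq₀
  rw [hsum, hy, ← Finset.add_sum_erase _ _ (Finset.mem_univ q₀), hyS', add_eq_zero_iff_eq_neg] at h0
  have h5 : σ (b : P) (π v) - π v ∈ img σ B₀ ⊓ ⨆ B' ∈ {B' | B' ∈ D.mem ∧ B' ≠ B₀}, img σ B' := by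
    refine AddSubgroup.mem_inf.2 ⟨sub_mem_img σ b.2 _, ?_⟩
    rw [h0]
    refine neg_mem (sum_mem fun q hq => ?_)
    have hne : cm (out q) B₀ ≠ B₀ := fun e => Finset.ne_of_mem_erase hq (by
      have hqS : out q ∈ S := ⟨(q.out).2, Local.mem_normalizer_of_map_conj_eq e⟩
      conv_lhs => rw [← QuotientGroup.out_eq' q]
      refine QuotientGroup.eq.2 ?_
      rw [mul_one]
      exact inv_mem hqS)
    exact AddSubgroup.mem_iSup_of_mem (cm (out q) B₀) (AddSubgroup.mem_iSup_of_mem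
      (show cm (out q) B₀ ∈ {B' | B' ∈ D.mem ∧ B' ≠ B₀} from ⟨D.mem_perm _ (q.out).2 B₀ hB₀, hne⟩)
      (mem_img_cm σ (sub_mem_img σ b.2 _)))
  rw [D.img_indep B₀ hB₀, AddSubgroup.mem_bot] at h5
  exact hy0 h5

end Frame

/-- **On the whole module.** -/
theorem lifted (hsp : HasSplit.{u, v} p) (h : Over ρ T M) (hoff : HasOffender ρ T) : Lifted ρ T := by
  classical
  obtain ⟨U, iU, iUf, σ, W1, W2, π, N, ι, iι, D, f⟩ := exists_frame hsp h hoff
  haveI : Nonempty ι := D.nonempty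
  let e := Fintype.equivFin ι
  refine ⟨⟨Fintype.card ι, fun k => D.E (e.symm k), Fintype.card_pos,
    fun i j hij => D.comm _ _ fun h => hij (e.symm.injective h), fun k => ?_, ?_,
    fun i j => D.trans _ _, ?_, fun i j hij => f.other_comp fun h => hij (e.symm.injective h),
    fun k => f.section_comp _⟩, f.moved⟩
  · refine eq_bot_iff.2 ((inf_le_inf_left _ (iSup₂_le fun j hj => ?_)).trans (f.inf_others (e.symm k)).le)
    exact le_iSup₂_of_le (f := fun l (_ : l ∈ {l | l ≠ e.symm k}) => D.E l) (e.symm j)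
      (fun h => hj (e.symm.injective h)) le_rfl
  · rw [e.symm.iSup_comp (g := D.E)]; exact D.sup
  · rw [e.symm.iSup_comp (g := D.E), e.symm.iSup_comp (g := fun i => img ρ (D.E i))]; exact f.sum_top

end CfsgLib.RootBlocks
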