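import Cfsg.Agent.Lib.RootBlocks.LiftDefs
import Cfsg.Agent.Lib.Basic
import Mathlib.GroupTheory.QuotientGroup.Basic
import Mathlib.GroupTheory.Index

/-!
A nontrivial irreducible section, and the faithful group on it.
-/

set_option autoImplicit false
set_option linter.unusedSectionVars false
set_option linter.style.haveILetI false
set_option maxHeartbeats 200000

namespace CfsgLib.RootBlocks

open CfsgLib CfsgLib.RootCommute
open scoped Pointwise
open CfsgLib.SL2Pair (fix)
open CfsgLib.StrongFusion (cm cm_cm cm_one cm_inv_cm cm_mono)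

universe u v w

variable {P : Type u} [Group P] [Finite P] {W : Type v} [AddCommGroup W] [Finite W]
  {p : ℕ} [hp : Fact p.Prime] {ρ : P →* AddMonoid.End W} {T : Sylow p P} {M : Subgroup P}

/-- Invariant additive subgroups. -/
def IsInv (ρ : P →* AddMonoid.End W) (X : AddSubgroup W) : Prop := ∀ g, ∀ x ∈ X, ρ g x ∈ X

/-- One step down a series. -/
theorem pow_fix_step (hW : ∀ x : W, p • x = 0) {g : P} {X Y : AddSubgroup W} (hX : ∀ x ∈ X, ρ g x = x)
    (hd : ∀ y ∈ Y, ρ g y - y ∈ X) : ∀ y ∈ Y, ρ (g ^ p) y = y := by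
  intro y hy
  have key : ∀ k : ℕ, ρ (g ^ k) y = y + k • (ρ g y - y) := by
    intro k
    induction k with
    | zero => rw [pow_zero, act_one, zero_nsmul, add_zero]
    | succ k ih => rw [pow_succ', act_mul, ih, map_add, map_nsmul, hX _ (hd y hy), succ_nsmul]; abel
  rw [key, hW, add_zero]

/-- A nontrivial irreducible section. -/
theorem exists_section (h : Over ρ T M) :
    ∃ W1 W2 : AddSubgroup W, IsInv ρ W1 ∧ IsInv ρ W2 ∧ W1 ≤ W2 ∧
      (∀ X, IsInv ρ X → W1 ≤ X → X ≤ W2 → X = W1 ∨ X = W2) ∧ ∃ g, ∃ x ∈ W2, ρ g x - x ∉ W1 := by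
  classical
  by_contra hno
  push Not at hno
  have key : ∀ n, ∀ X : AddSubgroup W, Nat.card X ≤ n → IsInv ρ X → ∀ g, ∃ j : ℕ, ∀ x ∈ X, ρ (g ^ p ^ j) x = x := by
    intro n
    induction n with
    | zero => exact fun X hX => absurd hX (not_le.2 Nat.card_pos)
    | succ n ih =>
      intro X hXn hX g
      by_cases hbot : X = ⊥
      · exact ⟨0, fun x hx => by rw [hbot, AddSubgroup.mem_bot] at hx; rw [hx, map_zero]⟩
      obtain ⟨Y, ⟨hY, hYX⟩, hmax⟩ := Set.exists_max_image {Y : AddSubgroup W | IsInv ρ Y ∧ Y < X}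
        (fun Y => Nat.card Y) (Set.toFinite _)
        ⟨⊥, fun g x hx => by rw [AddSubgroup.mem_bot.1 hx, map_zero]; exact zero_mem _, bot_lt_iff_ne_bot.2 hbot⟩
      have hd := hno Y X hY hX hYX.le fun Z hZ hYZ hZX => by
        by_contra hne
        push Not at hne
        exact hne.1 (AddSubgroup.eq_of_le_of_card_ge hYZ (hmax Z ⟨hZ, lt_of_le_of_ne hZX hne.2⟩)).symm
      have hlt : Nat.card Y < Nat.card X :=
        lt_of_not_ge fun hle => hYX.ne (AddSubgroup.eq_of_le_of_card_ge hYX.le hle)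
      obtain ⟨j, hj⟩ := ih Y (by omega) hY g
      refine ⟨j + 1, fun x hx => ?_⟩
      rw [pow_succ, pow_mul]
      exact pow_fix_step h.smul_zero hj (hd _) x hx
  have hP : IsPGroup p P := fun g => by
    obtain ⟨j, hj⟩ := key (Nat.card (⊤ : AddSubgroup W)) ⊤ le_rfl (fun _ _ _ => trivial) g
    exact ⟨j, act_ext ρ h.inj fun x => by rw [hj x trivial, act_one]⟩
  exact h.M_ne (eq_top_iff.2 (((T.3 (hP.to_subgroup ⊤) le_top).le).trans h.le_M))

/-- The action on a section. -/
theorem exists_quotient {W1 W2 : AddSubgroup W} (h1 : IsInv ρ W1) (h2 : IsInv ρ W2) :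
    ∃ (U : Type v) (_ : AddCommGroup U) (_ : Finite U) (σ : P →* AddMonoid.End U) (π : W2 →+ U),
      Function.Surjective π ∧ (∀ x : W2, π x = 0 ↔ (x : W) ∈ W1) ∧
      ∀ (g : P) (x : W2), σ g (π x) = π ⟨ρ g x, h2 g x x.2⟩ := by
  classical
  let R : P → W2 →+ W2 := fun g => AddMonoidHom.mk' (fun x => ⟨ρ g x, h2 g x x.2⟩) fun a c =>
    Subtype.ext (map_add (ρ g) (a : W) c)
  let N := W1.addSubgroupOf W2
  let σf : P → AddMonoid.End (W2 ⧸ N) := fun g => QuotientAddGroup.map N N (R g) fun x hx => h1 g x hx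
  have hσ : ∀ g (x : W2), σf g (QuotientAddGroup.mk' N x) = QuotientAddGroup.mk' N (R g x) := fun g x =>
    QuotientAddGroup.map_mk' N N (R g) _ x
  refine ⟨W2 ⧸ N, inferInstance, inferInstance,
    { toFun := σf, map_one' := AddMonoidHom.ext fun u => ?_, map_mul' := fun g k => AddMonoidHom.ext fun u => ?_ },
    QuotientAddGroup.mk' N, QuotientAddGroup.mk'_surjective N,
    fun x => by rw [QuotientAddGroup.mk'_apply, QuotientAddGroup.eq_zero_iff]; rfl, hσ⟩
  · obtain ⟨x, rfl⟩ := QuotientAddGroup.mk'_surjective N u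
    show σf 1 (QuotientAddGroup.mk' N x) = QuotientAddGroup.mk' N x
    rw [hσ]
    exact congrArg _ (Subtype.ext (act_one ρ x))
  · obtain ⟨x, rfl⟩ := QuotientAddGroup.mk'_surjective N u
    show σf (g * k) (QuotientAddGroup.mk' N x) = σf g (σf k (QuotientAddGroup.mk' N x))
    rw [hσ, hσ, hσ]
    exact congrArg _ (Subtype.ext (act_mul ρ g k x))

/-- A normal subgroup inside `M` meets the Sylow subgroup trivially. -/
theorem Over.inf_bot (h : Over ρ T M) {K : Subgroup P} (hK : K.Normal) (hKM : K ≤ M) :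
    (T : Subgroup P) ⊓ K = ⊥ := by
  haveI := hK
  set R := (T : Subgroup P) ⊓ K
  obtain ⟨Q, hQ⟩ := ((T.2.to_le (inf_le_left : R ≤ (T : Subgroup P))).comap_of_injective K.subtype
    K.subtype_injective).exists_le_sylow
  have hQR : (Q : Subgroup K).map K.subtype = R := by
    obtain ⟨T', hT'⟩ := ((Q.2 : IsPGroup p (Q : Subgroup K)).map K.subtype).exists_le_sylow
    obtain ⟨y, rfl⟩ := MulAction.exists_smul_eq P T T'
    have h1 : (Q : Subgroup K).map K.subtype ≤ cm y R := fun z hz => by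
      have h2 : z ∈ MulAut.conj y • (T : Subgroup P) := by
        rw [← Sylow.coe_subgroup_smul]; exact hT' hz
      obtain ⟨t, ht, rfl⟩ := h2
      refine ⟨t, Subgroup.mem_inf.2 ⟨ht, ?_⟩, rfl⟩
      have h3 : y * t * y⁻¹ ∈ K := Subgroup.map_subtype_le _ hz
      have := hK.conj_mem _ h3 y⁻¹
      rwa [show y⁻¹ * (y * t * y⁻¹) * y⁻¹⁻¹ = t by group] at this
    have h4 : R ≤ (Q : Subgroup K).map K.subtype := fun z hz => ⟨⟨z, hz.2⟩, hQ hz, rfl⟩
    have e := Subgroup.eq_of_le_of_card_ge h4 ((Nat.card_mono (Set.toFinite _) h1).trans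
      (Subgroup.card_map_of_injective (MulAut.conj y).injective).le)
    exact e.symm
  have hNT : (T : Subgroup P) ≤ Subgroup.normalizer (R : Set P) := fun t ht =>
    Local.mem_normalizer_of_map_conj_eq (Subgroup.eq_of_le_of_card_ge
      (Local.map_conj_le (fun r hr => Subgroup.mem_inf.2
        ⟨(T : Subgroup P).mul_mem ((T : Subgroup P).mul_mem ht (Subgroup.mem_inf.1 hr).1)
          ((T : Subgroup P).inv_mem ht), hK.conj_mem r (Subgroup.mem_inf.1 hr).2 t⟩))
      (Subgroup.card_map_of_injective (MulAut.conj t).injective).ge)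
  have htop : Subgroup.normalizer (R : Set P) = ⊤ := by
    by_contra hne
    have hfr := Sylow.normalizer_sup_eq_top Q
    rw [hQR] at hfr
    exact h.M_ne (eq_top_iff.2 (hfr.ge.trans (sup_le (h.over_le _ hNT hne) hKM)))
  exact h.no_core R (Subgroup.normalizer_eq_top_iff.1 htop) (T.2.to_le inf_le_left)

/-- A normal subgroup not inside `M` covers. -/
theorem Over.sup_top (h : Over ρ T M) {K : Subgroup P} (hKM : ¬ K ≤ M) : K ⊔ (T : Subgroup P) = ⊤ := by
  by_contra hne
  exact hKM (le_sup_left.trans (h.over_le _ le_sup_right hne))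

/-- The faithful image. -/
theorem exists_kerQuot {U : Type v} [AddCommGroup U] [Finite U] (σ : P →* AddMonoid.End U) :
    ∃ (Q : Type u) (_ : Group Q) (_ : Finite Q) (q : P →* Q) (σ' : Q →* AddMonoid.End U),
      Function.Surjective q ∧ q.ker = σ.ker ∧ (∀ g, σ' (q g) = σ g) ∧ Function.Injective σ' := by
  let q : P →* P ⧸ σ.ker := QuotientGroup.mk' σ.ker
  let σ' : P ⧸ σ.ker →* AddMonoid.End U := QuotientGroup.lift σ.ker σ le_rfl
  refine ⟨P ⧸ σ.ker, inferInstance, inferInstance, q, σ', QuotientGroup.mk'_surjective σ.ker,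
    QuotientGroup.ker_mk' σ.ker, fun g => QuotientGroup.lift_mk' σ.ker le_rfl g, fun a b h => ?_⟩
  obtain ⟨x, rfl⟩ := QuotientGroup.mk'_surjective σ.ker a
  obtain ⟨y, rfl⟩ := QuotientGroup.mk'_surjective σ.ker b
  have h' : σ x = σ y := h
  refine QuotientGroup.eq.2 (MonoidHom.mem_ker.2 ?_)
  rw [map_mul, ← h', ← map_mul, inv_mul_cancel, map_one]

/-- The quotient acting on an irreducible section. -/
theorem irr_quotient (h : Over ρ T M) {U : Type v} [AddCommGroup U] [Finite U] {σ : P →* AddMonoid.End U}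
    (hsub : ∀ X : AddSubgroup U, IsInv σ X → X = ⊥ ∨ X = ⊤) (hne : ∃ g x, σ g x ≠ x)
    (hU : ∀ x : U, p • x = 0) :
    σ.ker ≤ M ∧ (T : Subgroup P) ⊓ σ.ker = ⊥ ∧
      (Function.Injective σ → Irr σ T M) ∧
      ∃ (Q : Type u) (_ : Group Q) (_ : Finite Q) (q : P →* Q) (σ' : Q →* AddMonoid.End U) (T' : Sylow p Q)
        (M' : Subgroup Q), Function.Surjective q ∧ q.ker = σ.ker ∧ (∀ g, σ' (q g) = σ g) ∧
          (T' : Subgroup Q) = (T : Subgroup P).map q ∧ Irr σ' T' M' := by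
  classical
  have hnf : ∀ x : U, (∀ g, σ g x = x) → x = 0 := by
    intro x hx
    obtain ⟨g, y, hgy⟩ := hne
    have hinv : IsInv σ (fix σ (⊤ : Subgroup P)) := fun g z hz => by
      rw [hz g trivial]; exact hz
    rcases hsub _ hinv with e | e
    · have : x ∈ fix σ (⊤ : Subgroup P) := fun g _ => hx g
      rwa [e, AddSubgroup.mem_bot] at this
    · exact absurd ((e.ge (AddSubgroup.mem_top y)) g trivial) hgy
  have hfull : ∀ X : AddSubgroup U, (∀ g x, σ g x - x ∈ X) → X = ⊤ := by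
    intro X hX
    obtain ⟨g, y, hgy⟩ := hne
    have hinv : IsInv σ X := fun g z hz => by
      have := add_mem (hX g z) hz
      rwa [sub_add_cancel] at this
    refine (hsub X hinv).resolve_left fun e => hgy ?_
    have := hX g y
    rwa [e, AddSubgroup.mem_bot, sub_eq_zero] at this
  have hKM : σ.ker ≤ M := by
    by_contra hn
    obtain ⟨g, y, hgy⟩ := hne
    have htop : (⊤ : AddSubgroup U) ≠ ⊥ := fun e => hgy (by
      rw [(AddSubgroup.mem_bot.1 (e ▸ AddSubgroup.mem_top (σ g y) : σ g y ∈ (⊥ : AddSubgroup U))),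
        (AddSubgroup.mem_bot.1 (e ▸ AddSubgroup.mem_top y : y ∈ (⊥ : AddSubgroup U)))])
    obtain ⟨w, -, hw0, hw⟩ := exists_fix σ hU (E := (T : Subgroup P)) T.2 (W := ⊤) (fun _ _ _ _ => trivial) htop
    refine hw0 (hnf w fun g => ?_)
    have h5 : σ.ker ⊔ (T : Subgroup P) ≤ pointStab σ w :=
      sup_le (fun a ha => by
        show σ a w = w
        rw [MonoidHom.mem_ker.1 ha]; rfl) fun a ha => hw a ha
    exact h5 (h.sup_top hn ▸ Subgroup.mem_top g)
  have hTK := h.inf_bot σ.normal_ker hKM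
  have hcore : ∀ {Q : Type u} [Group Q] [Finite Q] (τ : Q →* AddMonoid.End U), Function.Injective τ →
      (∀ g, ∃ k, τ k = σ g) → ∀ N : Subgroup Q, N.Normal → IsPGroup p N → N = ⊥ := by
    intro Q _ _ τ hτ hcov N hN hNp
    haveI : Nontrivial U := by
      obtain ⟨g, y, hgy⟩ := hne
      exact ⟨_, _, hgy⟩
    obtain ⟨w, -, hw0, hw⟩ := exists_fix τ hU hNp (W := (⊤ : AddSubgroup U)) (fun _ _ _ _ => trivial) top_ne_bot
    have hinv : IsInv σ (fix τ N) := fun g z hz n hn => by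
      obtain ⟨k, hk⟩ := hcov g
      rw [← hk]
      have h3 := hN.conj_mem n hn k⁻¹
      rw [inv_inv] at h3
      have h4 := congrArg (τ k) (hz _ h3)
      rwa [← act_mul, ← mul_assoc, mul_inv_cancel_left, act_mul] at h4
    have htop : fix τ N = ⊤ := (hsub _ hinv).resolve_left fun e => hw0 (by
      rw [← AddSubgroup.mem_bot, ← e]; exact hw)
    exact (Subgroup.eq_bot_iff_forall N).2 fun n hn => act_ext τ hτ fun z => by
      rw [act_one]; exact htop.ge (AddSubgroup.mem_top z) n hn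
  refine ⟨hKM, hTK, fun hinj => ⟨⟨hinj, hU, h.le_M, h.M_ne, h.over_le, hcore σ hinj fun g => ⟨g, rfl⟩⟩, hnf, hfull⟩, ?_⟩
  obtain ⟨Q, iQ, iQ', q, σ', hq, hqk, hσ', hinj'⟩ := exists_kerQuot σ
  refine ⟨Q, iQ, iQ', q, σ', T.mapSurjective hq, M.map q, hq, hqk, hσ', Sylow.coe_mapSurjective hq T,
    ⟨⟨hinj', hU, ?_, ?_, ?_, hcore σ' hinj' fun g => ⟨q g, hσ' g⟩⟩, ?_, ?_⟩⟩
  · rw [Sylow.coe_mapSurjective]; exact Subgroup.map_mono h.le_M
  · intro e
    refine h.M_ne (eq_top_iff.2 fun g _ => ?_)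
    obtain ⟨m, hm, hmg⟩ := e.ge (Subgroup.mem_top (q g))
    have h1 : m⁻¹ * g ∈ σ.ker := hqk ▸ (MonoidHom.mem_ker.2 (by rw [map_mul, map_inv, hmg, inv_mul_cancel]) :
      m⁻¹ * g ∈ q.ker)
    have := M.mul_mem hm (hKM h1)
    rwa [mul_inv_cancel_left] at this
  · intro H hH hne'
    rw [Sylow.coe_mapSurjective] at hH
    have h1 := h.over_le (H.comap q) (Subgroup.map_le_iff_le_comap.1 hH) fun e => hne'
      (eq_top_iff.2 fun z _ => by
        obtain ⟨g, rfl⟩ := hq z
        exact e.ge (Subgroup.mem_top g))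
    intro z hz
    obtain ⟨g, rfl⟩ := hq z
    exact ⟨g, h1 hz, rfl⟩
  · exact fun x hx => hnf x fun g => by rw [← hσ']; exact hx (q g)
  · exact fun X hX => hfull X fun g x => by rw [← hσ']; exact hX (q g) x

end CfsgLib.RootBlocks
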