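import Cfsg.Agent.Lib.RootBlocks.Basic
import Mathlib.FieldTheory.Finite.Basic
import Mathlib.FieldTheory.Finite.GaloisField
import Mathlib.GroupTheory.SpecificGroups.Cyclic
import Mathlib.Algebra.Algebra.ZMod

/-!
An elementary abelian group keeping one block gains nothing on it, and breaks even only if it is trivial
there or is the whole root group.
-/

set_option autoImplicit false
set_option linter.unusedSectionVars false
set_option linter.style.haveILetI false

namespace CfsgLib.RootBlocks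

open CfsgLib CfsgLib.RootCommute
open CfsgLib.SL2Pair (fix)
open CfsgLib.StrongFusion (cm)

universe u v w

variable {P : Type u} [Group P] [Finite P] {U : Type v} [AddCommGroup U] [Finite U] {p : ℕ} [hp : Fact p.Prime]
  {ρ : P →* AddMonoid.End U} {T : Sylow p P} {ι : Type w} [Fintype ι] {F : Type} [Field F] [Fintype F]

theorem proper_le {H : AddSubgroup F} {n : ℕ} (hn : Fintype.card F = p ^ n) (h : H ≠ ⊤) :
    p * Nat.card H ≤ Fintype.card F := by
  have h1 := H.card_mul_index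
  rw [Nat.card_eq_fintype_card (α := F)] at h1
  obtain ⟨k, -, hk⟩ := (Nat.dvd_prime_pow hp.out).1 (hn ▸ h1 ▸ dvd_mul_left H.index (Nat.card H))
  have hk0 : k ≠ 0 := fun e => h (AddSubgroup.index_eq_one.1 (by rw [hk, e, pow_zero]))
  rw [← h1, hk, mul_comm]
  exact Nat.mul_le_mul_left _ (Nat.le_self_pow hk0 p)

namespace Blocks

variable (b : Blocks ρ T ι F)
include b

/-- The pair of coordinates in one block. -/
noncomputable def pr (i : ι) : U →+ F × F := (b.cx i).prod (b.cy i)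

/-- The elements seen as trivial in one block. -/
def blockKer (i : ι) : Subgroup P where
  carrier := {g | ∀ u, b.pr i (ρ g u) = b.pr i u}
  one_mem' u := by rw [act_one]
  mul_mem' {g k} hg hk u := by rw [act_mul, hg, hk]
  inv_mem' {g} hg u := by rw [← hg (ρ g⁻¹ u), act_inv']

theorem pr_invariant {i : ι} {s : P} (hs : s ∈ (T : Subgroup P)) (hsA : cm s (b.A i) = b.A i) {u : U}
    (hu : b.pr i u = 0) : b.pr i (ρ s u) = 0 := by
  classical
  have hu' := Prod.mk.inj hu
  rw [b.sum_coords u, map_sum, map_sum]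
  refine Finset.sum_eq_zero fun j _ => ?_
  by_cases hji : j = i
  · subst hji
    rw [show b.cx j u = 0 from hu'.1, show b.cy j u = 0 from hu'.2, map_zero, map_zero, add_zero, map_zero, map_zero]
  obtain ⟨k, hk, hkG⟩ := b.perm s hs j
  have hki : k ≠ i := fun e => hji (b.A_injective (Subgroup.map_injective (MulAut.conj s).injective (show cm s (b.A j) = cm s (b.A i) by rw [hk, e, hsA])))
  have hmem := b.moved_space hkG (u := b.ex j (b.cx j u) + b.ey j (b.cy j u))
    (AddSubgroup.mem_sup.2 ⟨_, ⟨_, rfl⟩, _, ⟨_, rfl⟩, rfl⟩)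
  obtain ⟨h1, h2⟩ := b.mem_space.1 hmem i hki.symm
  exact Prod.ext h1 h2

theorem pr_act {i : ι} {s : P} (hs : s ∈ (T : Subgroup P)) (hsA : cm s (b.A i) = b.A i) (u : U) :
    b.cx i (ρ s u) = b.cx i (ρ s (b.ex i (b.cx i u))) + b.cx i (ρ s (b.ey i (b.cy i u))) ∧
      b.cy i (ρ s u) = b.cy i (ρ s (b.ey i (b.cy i u))) := by
  have h := Prod.mk.inj (b.pr_invariant hs hsA (u := u - b.ex i (b.cx i u) - b.ey i (b.cy i u)) (Prod.ext
    (show b.cx i _ = 0 by rw [map_sub, map_sub, b.cx_ex, b.cx_ey, sub_self, sub_zero])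
    (show b.cy i _ = 0 by rw [map_sub, map_sub, b.cy_ex, b.cy_ey, sub_zero, sub_self])))
  have hfix : b.cy i (ρ s (b.ex i (b.cx i u))) = 0 := by
    rw [← b.fix_A]
    have h1 : b.ex i (b.cx i u) ∈ fix ρ (b.A i) := (b.fix_A i).2 (b.cy_ex _ _ _)
    rw [← hsA, mem_fix_cm, act_inv]
    exact h1
  obtain ⟨h1, h2⟩ := h
  simp only [map_sub] at h1 h2
  refine ⟨by linear_combination h1, ?_⟩
  rw [hfix] at h2
  linear_combination h2

/-- **One block.** -/
theorem single {n : ℕ} (hn : Fintype.card F = p ^ n) (i : ι) {S : Subgroup P} (hST : S ≤ (T : Subgroup P))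
    (hA : ∀ s ∈ S, cm s (b.A i) = b.A i) (hG : ∀ s ∈ S, cm s (b.grp i) = b.grp i)
    (hcomm : ∀ s ∈ S, ∀ t ∈ S, s * t = t * s) (hpow : ∀ s ∈ S, s ^ p = 1) :
    (b.blockKer i).relIndex S * Nat.card ((fix ρ S).map (b.pr i)) ≤ Fintype.card F ^ 2 ∧
    (Fintype.card F ^ 2 ≤ (b.blockKer i).relIndex S * Nat.card ((fix ρ S).map (b.pr i)) →
      (b.blockKer i).relIndex S = 1 ∨ ((b.blockKer i).relIndex S = Fintype.card F ∧
        ∀ s ∈ S, ∃ t, ∀ u, b.pr i (ρ s u) = b.pr i (ρ (b.av i t) u))) := by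
  classical
  haveI : CharP F p := by
    obtain ⟨r, hr⟩ := CharP.exists F
    have hrp : r ∣ p := (CharP.cast_eq_zero_iff F r p).1 b.cast_zero
    rcases (Nat.dvd_prime hp.out).1 hrp with rfl | rfl
    · exact absurd hr (fun h => CharP.ringChar_ne_one (R := F) ((ringChar.eq F 1).symm ▸ rfl))
    · exact hr
  letI : Algebra (ZMod p) F := ZMod.algebra F p
  -- the parts of the action
  let σ : S → F →+ F := fun s => (b.cy i).comp ((ρ (s : P) : U →+ U).comp (b.ey i))
  let σ2 : S → F →+ F := fun s => (b.cx i).comp ((ρ (s : P) : U →+ U).comp (b.ex i))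
  let φ : S → F →+ F := fun s => (b.cx i).comp ((ρ (s : P) : U →+ U).comp (b.ey i))
  have hact : ∀ (s : S) u, b.cx i (ρ (s : P) u) = σ2 s (b.cx i u) + φ s (b.cy i u) ∧
      b.cy i (ρ (s : P) u) = σ s (b.cy i u) := fun s u => b.pr_act (hST s.2) (hA s s.2) u
  have σmul : ∀ (s t : S) y, σ (s * t) y = σ s (σ t y) := fun s t y => by
    show b.cy i (ρ ((s : P) * t) (b.ey i y)) = _
    rw [act_mul, (hact s _).2]; rfl
  have σ2mul : ∀ (s t : S) x, σ2 (s * t) x = σ2 s (σ2 t x) := fun s t x => by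
    show b.cx i (ρ ((s : P) * t) (b.ex i x)) = _
    rw [act_mul, (hact s _).1, (hact t _).2, b.cy_ex, map_zero, map_zero, add_zero]; rfl
  have σone : ∀ y, σ 1 y = y := fun y => by
    show b.cy i (ρ (1 : P) (b.ey i y)) = y
    rw [act_one, b.cy_ey]
  have hinjσ : ∀ s, Function.Injective (σ s) := fun s => Function.LeftInverse.injective (g := σ s⁻¹)
    (fun y => by rw [← σmul, inv_mul_cancel, σone])
  have hS1 : ∀ (s : S), s ^ p = 1 := fun s => Subtype.ext (by rw [SubmonoidClass.coe_pow]; exact hpow s s.2)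
  have hrel : ∀ s : S, ∀ t y, ∃ τ, σ2 s (t * y) = τ * σ s y ∧ ∀ y', σ2 s (t * y') = τ * σ s y' := by
    intro s t y
    have h1 : (s : P) * b.av i t * (s : P)⁻¹ ∈ b.A i := (hA s s.2).le ⟨_, b.av_mem i t, rfl⟩
    obtain ⟨τ, hτ⟩ := b.av_surj i _ h1
    have h2 : ∀ y', σ2 s (t * y') = τ * σ s y' := fun y' => by
      have e : ρ (b.av i τ) (ρ (s : P) (b.ey i y')) = ρ (s : P) (ρ (b.av i t) (b.ey i y')) := by
        rw [hτ, ← act_mul, inv_mul_cancel_right, act_mul]
      rw [b.a_ey, b.av_act] at e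
      have e' := congrArg (b.cx i) e
      rw [map_add, b.cx_ex, map_add (ρ (s : P)), map_add] at e'
      show b.cx i (ρ (s : P) (b.ex i (t * y'))) = τ * b.cy i (ρ (s : P) (b.ey i y'))
      linear_combination -e'
    exact ⟨τ, h2 y, h2⟩
  have hσ1 : ∀ s, σ s 1 ≠ 0 := fun s e => one_ne_zero (hinjσ s (e.trans (map_zero _).symm))
  have hσ2 : ∀ s t y, σ2 s (t * y) * σ s 1 = σ2 s t * σ s y := by
    intro s t y
    obtain ⟨τ, h1, h2⟩ := hrel s t y
    have h3 := h2 1
    rw [mul_one] at h3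
    rw [h1, h3]; ring
  have hσ21 : ∀ s, σ2 s 1 ≠ 0 := by
    intro s e
    obtain ⟨τ, h1, h2⟩ := hrel s 1 1
    rw [one_mul, e, eq_comm, mul_eq_zero] at h1
    have h3 : ∀ y, σ2 s y = 0 := fun y => by
      have := h2 y
      rwa [one_mul, h1.resolve_right (hσ1 s), zero_mul] at this
    have := σ2mul s⁻¹ s 1
    rw [inv_mul_cancel, h3, map_zero] at this
    have h4 : σ2 1 1 = (1 : F) := by
      show b.cx i (ρ (1 : P) (b.ex i 1)) = 1
      rw [act_one, b.cx_ex]
    exact one_ne_zero (h4.symm.trans this)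
  have hmulσ : ∀ s y z, σ s (y * z) * σ s 1 = σ s y * σ s z := by
    intro s y z
    have e1 := hσ2 s 1 (y * z)
    have e2 := hσ2 s y z
    have e3 := hσ2 s 1 y
    rw [one_mul] at e1 e3
    refine mul_left_cancel₀ (hσ21 s) ?_
    linear_combination (σ s z) * e3 + (σ s 1) * e2 - (σ s 1) * e1
  -- the field automorphism
  let θ₀ : S → F →+* F := fun s =>
    { toFun := fun y => σ s y / σ s 1
      map_one' := div_self (hσ1 s)
      map_mul' := fun y z => by rw [div_mul_div_comm, ← hmulσ, mul_div_mul_right _ _ (hσ1 s)]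
      map_zero' := by rw [map_zero, zero_div]
      map_add' := fun y z => by rw [map_add, add_div] }
  have hθmul : ∀ s t y, θ₀ (s * t) y = θ₀ s (θ₀ t y) := fun s t y => by
    show σ (s * t) y / σ (s * t) 1 = θ₀ s (σ t y / σ t 1)
    rw [map_div₀, σmul, σmul]
    show _ = σ s (σ t y) / σ s 1 / (σ s (σ t 1) / σ s 1)
    rw [div_div_div_cancel_right₀ (hσ1 s)]
  have hθone : ∀ y, θ₀ 1 y = y := fun y => by
    show σ 1 y / σ 1 1 = y
    rw [σone, σone, div_one]
  let θ : S →* (F ≃ₐ[ZMod p] F) := MonoidHom.mk'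
    (fun s => AlgEquiv.ofRingEquiv (f := RingEquiv.ofBijective (θ₀ s)
      (Finite.injective_iff_bijective.1 (θ₀ s).injective))
      (fun c => RingHom.congr_fun (Subsingleton.elim ((θ₀ s).comp (algebraMap (ZMod p) F)) (algebraMap (ZMod p) F)) c))
    fun s t => AlgEquiv.ext fun y => hθmul s t y
  have hθker : ∀ s ∈ θ.ker, ∀ y, σ s y = y := by
    intro s hs y
    have hlin : ∀ t y, θ₀ t y = y → σ t y = σ t 1 * y := fun t y h => by
      have h' : σ t y / σ t 1 = y := h
      rw [div_eq_iff (hσ1 t)] at h'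
      rw [h', mul_comm]
    have hθy : ∀ (t : S), t ∈ θ.ker → ∀ y, σ t y = σ t 1 * y := fun t ht y =>
      hlin t y (AlgEquiv.congr_fun (MonoidHom.mem_ker.1 ht) y)
    have hpw : ∀ k : ℕ, σ (s ^ k) 1 = σ s 1 ^ k := by
      intro k
      induction k with
      | zero => rw [pow_zero, pow_zero, σone]
      | succ k ih => rw [pow_succ', σmul, hθy s hs, ih, pow_succ']
    have h1 := hpw p
    rw [hS1, σone] at h1
    rw [hθy s hs y, show σ s 1 = 1 from frobenius_inj F p (by rw [frobenius_def, frobenius_def, one_pow, ← h1]), one_mul]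
  have hK : ∀ s ∈ θ.ker, (∀ x, σ2 s x = x) ∧ ∀ y, φ s y = φ s 1 * y := by
    intro s hs
    have h1 : ∀ t, σ2 s t = σ2 s 1 * t := fun t => by
      have := hσ2 s 1 t
      rw [one_mul, hθker s hs, hθker s hs, mul_one] at this
      exact this
    have hpw : ∀ k : ℕ, σ2 (s ^ k) 1 = σ2 s 1 ^ k := by
      intro k
      induction k with
      | zero =>
        rw [pow_zero, pow_zero]
        show b.cx i (ρ (1 : P) (b.ex i 1)) = 1
        rw [act_one, b.cx_ex]
      | succ k ih => rw [pow_succ', σ2mul, h1, ih, pow_succ']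
    have h2 := hpw p
    rw [hS1] at h2
    have h3 : σ2 s 1 = 1 := frobenius_inj F p (by
      rw [frobenius_def, frobenius_def, one_pow, ← h2]
      show b.cx i (ρ (1 : P) (b.ex i 1)) = 1
      rw [act_one, b.cx_ex])
    have h4 : ∀ x, σ2 s x = x := fun x => by rw [h1, h3, one_mul]
    refine ⟨h4, fun y => ?_⟩
    set r := (s : P) * b.rv i 1 * (s : P)⁻¹ with hr
    have hrG : r ∈ b.grp i := (hG s s.2).le ⟨_, b.rv_mem i 1, rfl⟩
    have hcy : ∀ u, b.cy i (ρ r u) = b.cy i u + b.cx i u - φ s (b.cy i u) := fun u => by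
      have h6 := (hact s (ρ (s : P)⁻¹ u))
      rw [act_inv', hθker s hs, h4] at h6
      rw [hr, act_mul, act_mul, (hact s _).2, hθker s hs, b.rv_act, map_add, b.cy_ey, one_mul, ← h6.2,
        show b.cx i (ρ (s : P)⁻¹ u) = b.cx i u - φ s (b.cy i u) by rw [← h6.2] at h6; linear_combination -h6.1]
      ring
    have h7 := congrArg (b.cy i) (b.grp_linear hrG y (b.ey i 1))
    rw [hcy] at h7
    simp only [scal, map_add, b.cy_ex, b.cy_ey, b.cx_ex, b.cx_ey, mul_zero, map_zero, zero_add, hcy, mul_one, add_zero] at h7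
    linear_combination -h7
  let ψ : θ.ker →* Multiplicative F := MonoidHom.mk' (fun s => Multiplicative.ofAdd (φ s 1)) fun s t => by
    refine congrArg Multiplicative.ofAdd ?_
    show b.cx i (ρ (((s : S) : P) * ((t : S) : P)) (b.ey i 1)) = φ s 1 + φ t 1
    rw [act_mul, (hact _ _).1, (hK _ s.2).1, (hact _ _).2, b.cy_ey, hθker _ t.2, add_comm]
    rfl
  set B := (b.blockKer i).subgroupOf S with hB
  have hBker : ∀ s : S, s ∈ B ↔ s ∈ θ.ker ∧ φ s 1 = 0 := by
    intro s
    refine ⟨fun hs => ?_, fun ⟨h1, h2⟩ u => ?_⟩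
    · have hs' : ∀ u, b.pr i (ρ (s : P) u) = b.pr i u := hs
      have hy : ∀ y, σ s y = y := fun y => (Prod.mk.inj (hs' (b.ey i y))).2.trans (b.cy_ey i y)
      refine ⟨MonoidHom.mem_ker.2 (AlgEquiv.ext fun y => ?_), (Prod.mk.inj (hs' (b.ey i 1))).1.trans (b.cx_ey i i 1)⟩
      show σ s y / σ s 1 = y
      rw [hy, hy, div_one]
    · refine Prod.ext ?_ ?_
      · show b.cx i (ρ (s : P) u) = b.cx i u
        rw [(hact s u).1, (hK s h1).1, (hK s h1).2, h2, zero_mul, add_zero]
      · show b.cy i (ρ (s : P) u) = b.cy i u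
        rw [(hact s u).2, hθker s h1]
  have hBψ : B.subgroupOf θ.ker = ψ.ker := by
    ext s
    rw [Subgroup.mem_subgroupOf, hBker, MonoidHom.mem_ker]
    exact ⟨fun h => congrArg Multiplicative.ofAdd h.2, fun h => ⟨s.2, Multiplicative.ofAdd.injective h⟩⟩
  set a0 := Nat.card ψ.range with ha0
  set a1 := Nat.card θ.range with ha1
  have ha : (b.blockKer i).relIndex S = a0 * a1 := by
    show B.index = _
    rw [← Subgroup.relIndex_mul_index (H := B) (K := θ.ker) (fun s hs => ((hBker s).1 hs).1), Subgroup.index_ker,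
      Subgroup.relIndex, hBψ, Subgroup.index_ker]
  have ha0le : a0 ≤ Fintype.card F := by
    rw [← Nat.card_eq_fintype_card (α := F)]
    exact Finite.card_subtype_le _
  have ha1le : a1 ≤ p := by
    haveI : IsCyclic θ.range := inferInstance
    refine Nat.le_of_dvd hp.out.pos ?_
    rw [ha1, ← IsCyclic.exponent_eq_card]
    refine Monoid.exponent_dvd_of_forall_pow_eq_one ?_
    rintro ⟨_, s, rfl⟩
    exact Subtype.ext (by rw [SubmonoidClass.coe_pow, ← map_pow, hS1, map_one]; rfl)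
  set C := (fix ρ S).map (b.pr i) with hC
  have hCfix : ∀ c ∈ C, ∀ s : S, σ2 s c.1 + φ s c.2 = c.1 ∧ σ s c.2 = c.2 := by
    rintro _ ⟨u, hu, rfl⟩ s
    obtain ⟨h1, h2⟩ := hact s u
    rw [hu (s : P) s.2] at h1 h2
    exact ⟨h1.symm, h2.symm⟩
  have hCall : Nat.card C ≤ Fintype.card F ^ 2 :=
    (Finite.card_subtype_le _).trans (by rw [Nat.card_prod, Nat.card_eq_fintype_card, pow_two])
  -- the cases
  by_cases hθ1 : a1 = 1
  · by_cases hψ1 : a0 = 1
    · rw [ha, hθ1, hψ1, one_mul, one_mul]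
      exact ⟨hCall, fun _ => Or.inl rfl⟩
    obtain ⟨s, hs⟩ : ∃ s : θ.ker, φ s 1 ≠ 0 := by
      by_contra hno
      push Not at hno
      refine hψ1 ?_
      rw [ha0, MonoidHom.range_eq_bot_iff.2 (MonoidHom.ext fun s => congrArg Multiplicative.ofAdd (hno s)),
        Subgroup.card_bot]
    have hle : Nat.card C ≤ Fintype.card F := by
      rw [← Nat.card_eq_fintype_card (α := F)]
      refine Nat.card_le_card_of_injective (fun c : C => (c : F × F).1) fun c d e => Subtype.ext (Prod.ext e ?_)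
      have hz : ∀ c ∈ C, c.2 = 0 := fun c hc => by
        have h1 := (hCfix c hc s).1
        rw [(hK s s.2).1, add_eq_left, (hK s s.2).2, mul_eq_zero] at h1
        exact h1.resolve_left hs
      rw [hz _ c.2, hz _ d.2]
    rw [ha, hθ1, mul_one, pow_two]
    refine ⟨Nat.mul_le_mul ha0le hle, fun heq => Or.inr ⟨?_, fun s hs => ?_⟩⟩
    · exact le_antisymm ha0le (Nat.le_of_mul_le_mul_right (heq.trans (Nat.mul_le_mul_left a0 hle)) Fintype.card_pos)
    · have hsk : (⟨s, hs⟩ : S) ∈ θ.ker := by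
        have h1 : θ.range = ⊥ := Subgroup.eq_bot_of_card_eq _ hθ1
        exact MonoidHom.mem_ker.2 (Subgroup.mem_bot.1 (h1.le ⟨_, rfl⟩))
      refine ⟨φ ⟨s, hs⟩ 1, fun u => Prod.ext ?_ ?_⟩
      · show b.cx i _ = b.cx i _
        rw [(hact ⟨s, hs⟩ u).1, (hK _ hsk).1, (hK _ hsk).2, b.av_act, map_add, b.cx_ex]
      · show b.cy i _ = b.cy i _
        rw [(hact ⟨s, hs⟩ u).2, hθker _ hsk, b.av_act, map_add, b.cy_ex, add_zero]
  obtain ⟨s, hs⟩ : ∃ s : S, s ∉ θ.ker := by
    by_contra hno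
    push Not at hno
    refine hθ1 ?_
    rw [ha1, MonoidHom.range_eq_bot_iff.2 (MonoidHom.ext fun s => MonoidHom.mem_ker.1 (hno s)), Subgroup.card_bot]
  have hnid : ¬ ∀ y, θ₀ s y = y := fun h => hs (MonoidHom.mem_ker.2 (AlgEquiv.ext h))
  let Y : AddSubgroup F := (σ s - AddMonoidHom.id F).ker
  let X : AddSubgroup F := (σ2 s - AddMonoidHom.id F).ker
  have hY : Y ≠ ⊤ := fun e => hnid fun y => by
    have h1 : ∀ y, σ s y = y := fun y => sub_eq_zero.1 (AddMonoidHom.mem_ker.1 (e.ge (AddSubgroup.mem_top y)) :)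
    show σ s y / σ s 1 = y
    rw [h1, h1, div_one]
  have hX : X ≠ ⊤ := fun e => hnid fun y => by
    have h1 : ∀ y, σ2 s y = y := fun y => sub_eq_zero.1 (AddMonoidHom.mem_ker.1 (e.ge (AddSubgroup.mem_top y)) :)
    have h2 := hσ2 s 1 y
    rw [one_mul, h1, h1, one_mul] at h2
    show σ s y / σ s 1 = y
    rw [← h2, mul_div_cancel_right₀ _ (hσ1 s)]
  have hpY := proper_le hn hY
  have hpX := proper_le hn hX
  have hp2 := hp.out.two_le
  set q := Fintype.card F with hq
  have hq0 : 0 < q := Fintype.card_pos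
  by_cases hψ1 : a0 = 1
  · have hle : Nat.card C ≤ Nat.card Y * Nat.card X := by
      set g : C →+ F := (AddMonoidHom.snd F F).comp C.subtype
      have h1 := g.ker.card_mul_index
      rw [AddSubgroup.index_ker] at h1
      rw [← h1, mul_comm]
      refine Nat.mul_le_mul (AddSubgroup.card_le_of_le ?_) ?_
      · rintro _ ⟨c, rfl⟩
        exact AddMonoidHom.mem_ker.2 (sub_eq_zero.2 (hCfix _ c.2 s).2)
      · refine Nat.card_le_card_of_injective (fun c : g.ker => (⟨((c : C) : F × F).1, ?_⟩ : X)) fun c d e => ?_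
        · have h2 := (hCfix _ (c : C).2 s).1
          rw [show ((c : C) : F × F).2 = 0 from c.2, map_zero, add_zero] at h2
          exact AddMonoidHom.mem_ker.2 (sub_eq_zero.2 h2)
        · refine Subtype.ext (Subtype.ext (Prod.ext (congrArg Subtype.val e :) ?_))
          exact (show ((c : C) : F × F).2 = 0 from c.2).trans (show ((d : C) : F × F).2 = 0 from d.2).symm
    have key : a0 * a1 * Nat.card C * p ≤ q ^ 2 := by
      rw [hψ1, one_mul]
      calc a1 * Nat.card C * p ≤ p * (Nat.card Y * Nat.card X) * p := by gcongr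
        _ = (p * Nat.card Y) * (p * Nat.card X) := by ring
        _ ≤ q * q := by gcongr
        _ = q ^ 2 := by ring
    rw [ha]
    refine ⟨le_trans (Nat.le_mul_of_pos_right _ hp.out.pos) key, fun heq => ?_⟩
    have : 0 < q ^ 2 := by positivity
    nlinarith
  obtain ⟨k, hk⟩ : ∃ k : θ.ker, φ k 1 ≠ 0 := by
    by_contra hno
    push Not at hno
    refine hψ1 ?_
    rw [ha0, MonoidHom.range_eq_bot_iff.2 (MonoidHom.ext fun s => congrArg Multiplicative.ofAdd (hno s)),
      Subgroup.card_bot]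
  have hz : ∀ c ∈ C, c.2 = 0 := fun c hc => by
    have h1 := (hCfix c hc k).1
    rw [(hK k k.2).1, add_eq_left, (hK k k.2).2, mul_eq_zero] at h1
    exact h1.resolve_left hk
  have hle : Nat.card C ≤ Nat.card X := by
    refine Nat.card_le_card_of_injective (fun c : C => (⟨(c : F × F).1, ?_⟩ : X)) fun c d e => Subtype.ext
      (Prod.ext (congrArg Subtype.val e :) ((hz _ c.2).trans (hz _ d.2).symm))
    have h2 := (hCfix _ c.2 s).1
    rw [hz _ c.2, map_zero, add_zero] at h2
    exact AddMonoidHom.mem_ker.2 (sub_eq_zero.2 h2)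
  have key : a1 * Nat.card C ≤ q := (Nat.mul_le_mul ha1le hle).trans hpX
  rw [ha, mul_assoc, pow_two]
  refine ⟨Nat.mul_le_mul ha0le key, fun heq => ?_⟩
  exfalso
  have ha0q : a0 = q := le_antisymm ha0le (Nat.le_of_mul_le_mul_right (heq.trans (Nat.mul_le_mul_left a0 key)) hq0)
  have hsurj : ψ.range = ⊤ := Subgroup.eq_top_of_card_eq _ (by
    rw [← ha0, ha0q, hq, ← Nat.card_eq_fintype_card]; rfl)
  refine hnid fun y => ?_
  have hcm : ∀ t z, σ2 s (t * z) = t * σ s z := by
    intro t z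
    obtain ⟨d, hd⟩ := hsurj.ge (Subgroup.mem_top (Multiplicative.ofAdd t))
    have ht : φ d 1 = t := Multiplicative.ofAdd.injective hd
    have e : ρ (s : P) (ρ ((d : S) : P) (b.ey i z)) = ρ ((d : S) : P) (ρ (s : P) (b.ey i z)) := by
      rw [← act_mul, ← act_mul, hcomm _ s.2 _ (d : S).2]
    have e' := congrArg (b.cx i) e
    rw [(hact s _).1, (hact d _).1, (hact d _).2, (hact d _).1, (hK d d.2).1, (hK d d.2).1, (hK d d.2).2,
      (hK d d.2).2 (b.cy i (ρ (s : P) _)), hθker _ d.2, b.cx_ey, b.cy_ey, zero_add, ht] at e'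
    show σ2 s (t * z) = t * b.cy i (ρ (s : P) (b.ey i z))
    have e'' : φ s z = b.cx i (ρ (s : P) (b.ey i z)) := rfl
    linear_combination e' - e''
  show σ s y / σ s 1 = y
  have h1 := hcm 1 y
  have h2 := hcm y 1
  rw [one_mul] at h1
  rw [mul_one] at h2
  rw [← one_mul (σ s y), ← one_mul (σ s y), one_mul, ← h1, h2, mul_div_cancel_right₀ _ (hσ1 s)]

end Blocks

end CfsgLib.RootBlocks
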